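import Mathlib
import Cfsg.Agent.Helper96.SLPresFinal
import Cfsg.Agent.Helper96.StC.Main

/-!
# A short presentation of `Sp₄(q)` (S2293): definitions

Two homomorphisms `L S : SL₂(K) →* D` (the long root `β = 2e₂` and the short root `α = e₁ - e₂`),
the eight root subgroups `RR L S γ`, the cross relations `Cross L S z` at a generator `z` of `Kˣ`,
the family `RX L S p q t` indexed like helper96's `spM p q t`, and the tables of the `C₂` relations.
-/

set_option autoImplicit false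

namespace Cfsg.Agent.Helper9.Sp4P

open Matrix Cfsg.Agent.Helper96.StemSLTwo Cfsg.Agent.Helper96.StPres Cfsg.Agent.Helper96.StC

universe u v

/-- `SL₂(K)` -/
abbrev SL2 (K : Type u) [Field K] := Matrix.SpecialLinearGroup (Fin 2) K

variable {K : Type u} [Field K] {D : Type v} [Group D]

/-- the image of the upper unitriangular matrix -/
def xe (a : SL2 K →* D) (t : K) : D := a (uMat K t)

/-- the image of the lower unitriangular matrix -/
def ye (a : SL2 K →* D) (t : K) : D := a (lMat K t)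

/-- the image of the Weyl element `w(1) = !![0, 1; -1, 0]` -/
def we (a : SL2 K →* D) : D := a (WU (1 : K))

/-- the image of the diagonal matrix `diag(s, s⁻¹)` -/
def he (a : SL2 K →* D) (s : Kˣ) : D := a (dMat (s : K) s.ne_zero)

/-- the facts about `SL₂(K)` that are used, transported by a homomorphism -/
structure SL2Facts (a : SL2 K →* D) : Prop where
  x_add : ∀ t u, xe a (t + u) = xe a t * xe a u
  y_add : ∀ t u, ye a (t + u) = ye a t * ye a u
  h_mul : ∀ s s', he a (s * s') = he a s * he a s'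
  h_x : ∀ (s : Kˣ) (t : K), he a s * xe a t * (he a s)⁻¹ = xe a ((s : K) ^ 2 * t)
  h_y : ∀ (s : Kˣ) (t : K), he a s * ye a t * (he a s)⁻¹ = ye a (((s : K)⁻¹) ^ 2 * t)
  w_x : ∀ t, we a * xe a t * (we a)⁻¹ = ye a (-t)
  w_y : ∀ t, we a * ye a t * (we a)⁻¹ = xe a (-t)
  w_h : ∀ s, we a * he a s * (we a)⁻¹ = he a s⁻¹
  w_sq : we a * we a = he a (-1)
  w_eq : we a = xe a 1 * ye a (-1) * xe a 1

/-- the eight roots of `C₂`: `α = e₁ - e₂`, `β = 2e₂`, `α + β = e₁ + e₂`, `2α + β = 2e₁` and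
their negatives -/
inductive Rt
  | a | ma | b | mb | ab | mab | aab | maab
  deriving DecidableEq, Repr

instance : Fintype Rt :=
  ⟨{Rt.a, Rt.ma, Rt.b, Rt.mb, Rt.ab, Rt.mab, Rt.aab, Rt.maab}, fun x => by cases x <;> decide⟩

/-- the eight root subgroups, `L` the long root `β`, `S` the short root `α` -/
def RR (L S : SL2 K →* D) : Rt → K → D
  | Rt.a, t => xe S t
  | Rt.ma, t => ye S t
  | Rt.b, t => xe L t
  | Rt.mb, t => ye L t
  | Rt.ab, t => we L * xe S (-t) * (we L)⁻¹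
  | Rt.mab, t => we L * ye S (-t) * (we L)⁻¹
  | Rt.aab, t => we S * xe L t * (we S)⁻¹
  | Rt.maab, t => we S * ye L t * (we S)⁻¹

/-- the thirteen cross relations, `z` a generator of `Kˣ` -/
structure Cross (L S : SL2 K →* D) (z : Kˣ) : Prop where
  r1 : Commute (he S z) (he L z)
  r2 : he L z * xe S 1 * (he L z)⁻¹ = xe S ((z : K)⁻¹)
  r3 : he S z * xe L 1 * (he S z)⁻¹ = xe L (((z : K)⁻¹) ^ 2)
  r4 : we S * he L z * (we S)⁻¹ = he S z * he L z
  r5 : we L * he S z * (we L)⁻¹ = he S z * he L z ^ 2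
  r6 : we S * (we L * xe S 1 * (we L)⁻¹) * (we S)⁻¹ = we L * xe S (-1) * (we L)⁻¹
  r7 : we S * (we L * ye S 1 * (we L)⁻¹) * (we S)⁻¹ = we L * ye S (-1) * (we L)⁻¹
  r8 : Commute (we S * xe L 1 * (we S)⁻¹) (xe L 1)
  r9 : Commute (we S * xe L 1 * (we S)⁻¹) (ye L 1)
  r10 : Commute (we S * ye L 1 * (we S)⁻¹) (ye L 1)
  r11 : Commute (xe S 1) (we S * xe L 1 * (we S)⁻¹)
  r12 : xe S 1 * (we L * xe S (-1) * (we L)⁻¹) * (xe S 1)⁻¹ * (we L * xe S (-1) * (we L)⁻¹)⁻¹ =
    we S * xe L 2 * (we S)⁻¹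
  r13 : xe L 1 * xe S (-1) * (xe L 1)⁻¹ * (xe S (-1))⁻¹ =
    (we L * xe S (-1) * (we L)⁻¹) * (we S * xe L (-1) * (we S)⁻¹)

/-- the exponent of `s` in the action of `he S s = h_α(s)` on the root subgroup `γ` -/
def chS : Rt → ℤ
  | Rt.a => 2 | Rt.ma => -2 | Rt.b => -2 | Rt.mb => 2
  | Rt.ab => 0 | Rt.mab => 0 | Rt.aab => 2 | Rt.maab => -2

/-- the exponent of `s` in the action of `he L s = h_β(s)` on the root subgroup `γ` -/
def chL : Rt → ℤ
  | Rt.a => -1 | Rt.ma => 1 | Rt.b => 2 | Rt.mb => -2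
  | Rt.ab => 1 | Rt.mab => -1 | Rt.aab => 0 | Rt.maab => 0

/-- the two tori commute and act on the eight root subgroups by the characters `chS`, `chL` -/
structure TorusAct (L S : SL2 K →* D) : Prop where
  comm : ∀ s s' : Kˣ, Commute (he S s) (he L s')
  actS : ∀ (γ : Rt) (s : Kˣ) (t : K),
    he S s * RR L S γ t * (he S s)⁻¹ = RR L S γ (((s ^ chS γ : Kˣ) : K) * t)
  actL : ∀ (γ : Rt) (s : Kˣ) (t : K),
    he L s * RR L S γ t * (he L s)⁻¹ = RR L S γ (((s ^ chL γ : Kˣ) : K) * t)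

/-- the reflection `s_α` on the roots -/
def sS : Rt → Rt
  | Rt.a => Rt.ma | Rt.ma => Rt.a | Rt.b => Rt.aab | Rt.aab => Rt.b
  | Rt.mb => Rt.maab | Rt.maab => Rt.mb | Rt.ab => Rt.ab | Rt.mab => Rt.mab

/-- the signs in the action of `we S` -/
def cS : Rt → ℤ
  | Rt.a => -1 | Rt.ma => -1 | Rt.b => 1 | Rt.aab => 1
  | Rt.mb => 1 | Rt.maab => 1 | Rt.ab => -1 | Rt.mab => -1

/-- the reflection `s_β` on the roots -/
def sL : Rt → Rt
  | Rt.b => Rt.mb | Rt.mb => Rt.b | Rt.a => Rt.ab | Rt.ab => Rt.a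
  | Rt.ma => Rt.mab | Rt.mab => Rt.ma | Rt.aab => Rt.aab | Rt.maab => Rt.maab

/-- the signs in the action of `we L` -/
def cL : Rt → ℤ
  | Rt.b => -1 | Rt.mb => -1 | Rt.a => -1 | Rt.ab => 1
  | Rt.ma => -1 | Rt.mab => 1 | Rt.aab => 1 | Rt.maab => 1

/-- the two Weyl elements permute the eight root subgroups -/
structure WeylAct (L S : SL2 K →* D) : Prop where
  actS : ∀ (γ : Rt) (t : K), we S * RR L S γ t * (we S)⁻¹ = RR L S (sS γ) ((cS γ : K) * t)
  actL : ∀ (γ : Rt) (t : K), we L * RR L S γ t * (we L)⁻¹ = RR L S (sL γ) ((cL γ : K) * t)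

/-- the pairs of roots whose root subgroups commute: equal roots, orthogonal long roots, and a short
and a long root at 45° -/
def commT : Rt → Rt → Bool
  | Rt.a, Rt.a => true | Rt.ma, Rt.ma => true | Rt.b, Rt.b => true | Rt.mb, Rt.mb => true
  | Rt.ab, Rt.ab => true | Rt.mab, Rt.mab => true | Rt.aab, Rt.aab => true
  | Rt.maab, Rt.maab => true
  | Rt.aab, Rt.b => true | Rt.b, Rt.aab => true
  | Rt.aab, Rt.mb => true | Rt.mb, Rt.aab => true
  | Rt.maab, Rt.b => true | Rt.b, Rt.maab => true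
  | Rt.maab, Rt.mb => true | Rt.mb, Rt.maab => true
  | Rt.a, Rt.aab => true | Rt.aab, Rt.a => true
  | Rt.a, Rt.mb => true | Rt.mb, Rt.a => true
  | Rt.ab, Rt.aab => true | Rt.aab, Rt.ab => true
  | Rt.ab, Rt.b => true | Rt.b, Rt.ab => true
  | Rt.ma, Rt.b => true | Rt.b, Rt.ma => true
  | Rt.ma, Rt.maab => true | Rt.maab, Rt.ma => true
  | Rt.mab, Rt.maab => true | Rt.maab, Rt.mab => true
  | Rt.mab, Rt.mb => true | Rt.mb, Rt.mab => true
  | _, _ => false

end Cfsg.Agent.Helper9.Sp4P
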