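import Mathlib
import Cfsg.Agent.Helper9.Sp4P.Defs
import Cfsg.Agent.Helper84.PSpNorm

/-!
# A short presentation of `Sp₄(q)` (S2293): the `C₂` relations, the family `RX`, the relator words,
the matrix model
-/

set_option autoImplicit false

namespace Cfsg.Agent.Helper9.Sp4P

open Matrix Cfsg.Agent.Helper96.StemSLTwo Cfsg.Agent.Helper96.StPres Cfsg.Agent.Helper96.StC

universe u v

variable {K : Type u} [Field K] {D : Type v} [Group D]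

/-- the pairs of orthogonal short roots: `⁅R γ t, R δ u⁆ = R ρ (ε * (2 * t * u))` -/
def r5T : Rt → Rt → Option (Rt × ℤ)
  | Rt.a, Rt.ab => some (Rt.aab, 1)
  | Rt.ab, Rt.a => some (Rt.aab, -1)
  | Rt.ma, Rt.ab => some (Rt.b, 1)
  | Rt.ab, Rt.ma => some (Rt.b, -1)
  | Rt.mab, Rt.ma => some (Rt.maab, 1)
  | Rt.ma, Rt.mab => some (Rt.maab, -1)
  | Rt.mab, Rt.a => some (Rt.mb, 1)
  | Rt.a, Rt.mab => some (Rt.mb, -1)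
  | _, _ => none

/-- the pairs (long, short) at 135°:
`⁅R γ t, R δ u⁆ = R ρ (ε * (t * u)) * R ρ' (ε' * (t * u ^ 2))` -/
def r6T : Rt → Rt → Option (Rt × ℤ × Rt × ℤ)
  | Rt.aab, Rt.mab => some (Rt.a, 1, Rt.mb, 1)
  | Rt.aab, Rt.ma => some (Rt.ab, -1, Rt.b, -1)
  | Rt.b, Rt.mab => some (Rt.ma, 1, Rt.maab, 1)
  | Rt.b, Rt.a => some (Rt.ab, -1, Rt.aab, -1)
  | Rt.maab, Rt.a => some (Rt.mab, 1, Rt.mb, -1)
  | Rt.maab, Rt.ab => some (Rt.ma, -1, Rt.b, 1)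
  | Rt.mb, Rt.ma => some (Rt.mab, 1, Rt.maab, -1)
  | Rt.mb, Rt.ab => some (Rt.a, -1, Rt.aab, 1)
  | _, _ => none

/-- the Steinberg relations of type `C₂` for a family indexed by the eight roots -/
structure C2Rel (R : Rt → K → D) : Prop where
  add : ∀ γ t u, R γ (t + u) = R γ t * R γ u
  comm : ∀ γ δ, commT γ δ = true → ∀ t u, Commute (R γ t) (R δ u)
  r5 : ∀ γ δ ρ ε, r5T γ δ = some (ρ, ε) → ∀ t u,
    R γ t * R δ u * (R γ t)⁻¹ * (R δ u)⁻¹ = R ρ ((ε : K) * (2 * t * u))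
  r6 : ∀ γ δ ρ ε ρ' ε', r6T γ δ = some (ρ, ε, ρ', ε') → ∀ t u,
    R γ t * R δ u * (R γ t)⁻¹ * (R δ u)⁻¹ =
      R ρ ((ε : K) * (t * u)) * R ρ' ((ε' : K) * (t * u ^ 2))

/-- the code of an index: `e₁ ↦ 0`, `e₂ ↦ 1`, `f₁ ↦ 2`, `f₂ ↦ 3` -/
def cd : Fin 2 ⊕ Fin 2 → ℕ
  | Sum.inl i => i.val
  | Sum.inr i => 2 + i.val

/-- the family indexed like helper96's `spM p q t` -/
def RX (L S : SL2 K →* D) (p q : Fin 2 ⊕ Fin 2) (t : K) : D :=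
  match cd p, cd q with
  | 0, 1 => RR L S Rt.a t
  | 1, 0 => RR L S Rt.ma t
  | 3, 2 => RR L S Rt.a (-t)
  | 2, 3 => RR L S Rt.ma (-t)
  | 1, 3 => RR L S Rt.b t
  | 3, 1 => RR L S Rt.mb t
  | 0, 2 => RR L S Rt.aab t
  | 2, 0 => RR L S Rt.maab t
  | 0, 3 => RR L S Rt.ab t
  | 1, 2 => RR L S Rt.ab t
  | 3, 0 => RR L S Rt.mab t
  | 2, 1 => RR L S Rt.mab t
  | _, _ => 1

/-- the thirteen cross relator words in `uL = x_β(1)`, `hL = h_β(z)`, `wL = w_β(1)`,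
`uS = x_α(1)`, `hS = h_α(z)`, `wS = w_α(1)` and `gS = x_α(z⁻¹)` -/
def crossWords {G : Type*} [Group G] (uL hL wL uS hS wS gS : G) : List G :=
  [hS * hL * hS⁻¹ * hL⁻¹,
   hL * uS * hL⁻¹ * gS⁻¹,
   hS * uL * hS⁻¹ * (hL⁻¹ * uL * hL)⁻¹,
   wS * hL * wS⁻¹ * (hS * hL)⁻¹,
   wL * hS * wL⁻¹ * (hS * hL * hL)⁻¹,
   wS * (wL * uS * wL⁻¹) * wS⁻¹ * (wL * uS⁻¹ * wL⁻¹)⁻¹,
   wS * (wL * (wS * uS⁻¹ * wS⁻¹) * wL⁻¹) * wS⁻¹ * (wL * (wS * uS⁻¹ * wS⁻¹)⁻¹ * wL⁻¹)⁻¹,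
   (wS * uL * wS⁻¹) * uL * (wS * uL * wS⁻¹)⁻¹ * uL⁻¹,
   (wS * uL * wS⁻¹) * (wL * uL⁻¹ * wL⁻¹) * (wS * uL * wS⁻¹)⁻¹ * (wL * uL⁻¹ * wL⁻¹)⁻¹,
   (wS * (wL * uL⁻¹ * wL⁻¹) * wS⁻¹) * (wL * uL⁻¹ * wL⁻¹) *
     (wS * (wL * uL⁻¹ * wL⁻¹) * wS⁻¹)⁻¹ * (wL * uL⁻¹ * wL⁻¹)⁻¹,
   uS * (wS * uL * wS⁻¹) * uS⁻¹ * (wS * uL * wS⁻¹)⁻¹,
   uS * (wL * uS⁻¹ * wL⁻¹) * uS⁻¹ * (wL * uS⁻¹ * wL⁻¹)⁻¹ * (wS * (uL * uL) * wS⁻¹)⁻¹,
   uL * uS⁻¹ * uL⁻¹ * uS * ((wL * uS⁻¹ * wL⁻¹) * (wS * uL⁻¹ * wS⁻¹))⁻¹]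

theorem length_crossWords {G : Type*} [Group G] (uL hL wL uS hS wS gS : G) :
    (crossWords uL hL wL uS hS wS gS).length = 13 := rfl

theorem map_crossWords {G H : Type*} [Group G] [Group H] (φ : G →* H)
    (uL hL wL uS hS wS gS : G) :
    (crossWords uL hL wL uS hS wS gS).map φ =
      crossWords (φ uL) (φ hL) (φ wL) (φ uS) (φ hS) (φ wS) (φ gS) := by
  simp only [crossWords, List.map_cons, List.map_nil, map_mul, map_inv]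

/-- a presentation of `SL₂(F)` on three generators together with words for the elements
`x(1)`, `h(z)`, `w(1)`, `x(z⁻¹)`, `z` a generator of `Fˣ` -/
structure SL2Pres (F : Type u) [Field F] where
  rels : Finset (FreeGroup (Fin 3))
  pi : PresentedGroup (↑rels : Set (FreeGroup (Fin 3))) →* SL2 F
  bij : Function.Bijective pi
  z : Fˣ
  hz : ∀ s : Fˣ, ∃ n : ℕ, z ^ n = s
  uw : FreeGroup (Fin 3)
  hw : FreeGroup (Fin 3)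
  ww : FreeGroup (Fin 3)
  gw : FreeGroup (Fin 3)
  pi_u : pi (PresentedGroup.mk _ uw) = uMat F 1
  pi_h : pi (PresentedGroup.mk _ hw) = dMat (z : F) z.ne_zero
  pi_w : pi (PresentedGroup.mk _ ww) = WU (1 : F)
  pi_g : pi (PresentedGroup.mk _ gw) = uMat F ((z : F)⁻¹)

section model

variable (F : Type u) [Field F]

/-- the long root `SL₂` of `Sp₄(F)`, acting on `⟨e₂, f₂⟩` -/
noncomputable def eL : SL2 F →* Matrix.symplecticGroup (Fin 2) F :=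
  Cfsg.Agent.Helper84.PSp.sl2 (1 : Fin 2)

/-- the short root `SL₂` of `Sp₄(F)`: `g ↦ diag(g, g⁻ᵀ)` -/
noncomputable def eS : SL2 F →* Matrix.symplecticGroup (Fin 2) F :=
  Cfsg.Agent.Helper84.PSp.lvS 2 F

theorem coe_eL (g : SL2 F) :
    ((eL F g : Matrix.symplecticGroup (Fin 2) F) : Matrix (Fin 2 ⊕ Fin 2) (Fin 2 ⊕ Fin 2) F) =
      fromBlocks (diagonal fun i => if i = 1 then g.1 0 0 else 1)
        (diagonal fun i => if i = 1 then g.1 0 1 else 0)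
        (diagonal fun i => if i = 1 then g.1 1 0 else 0)
        (diagonal fun i => if i = 1 then g.1 1 1 else 1) :=
  Cfsg.Agent.Helper84.PSp.coe_sl2 (1 : Fin 2) g

theorem coe_eS (g : SL2 F) :
    ((eS F g : Matrix.symplecticGroup (Fin 2) F) : Matrix (Fin 2 ⊕ Fin 2) (Fin 2 ⊕ Fin 2) F) =
      fromBlocks (g : Matrix (Fin 2) (Fin 2) F) 0 0
        ((g⁻¹ : SL2 F) : Matrix (Fin 2) (Fin 2) F)ᵀ := by
  change ((Cfsg.Agent.Helper84.PSp.lv 2 F (Matrix.SpecialLinearGroup.toGL g) :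
    Matrix.symplecticGroup (Fin 2) F) : Matrix (Fin 2 ⊕ Fin 2) (Fin 2 ⊕ Fin 2) F) = _
  rw [Cfsg.Agent.Helper84.PSp.coe_lv]
  rfl

end model

end Cfsg.Agent.Helper9.Sp4P
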