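import Mathlib
import Cfsg.Agent.Helper9.Sp4P.Defs

/-!
# S2293 piece (SL2F) -- see `tools/helper9_s2293/README.md` and board WANTED of helper9.
The `SL₂` facts (matrix identities in `SL₂(K)`: `uMat_add`, `lMat_add`, `dMat_conj`, `WU_conj`, `WU_one_conj_dMat`, `WU_coe` ... of Helper96/StemSLTwoB, StPresB, SLPresMat), mapped by `a`.
-/

set_option autoImplicit false

namespace Cfsg.Agent.Helper9.Sp4P

open Matrix Cfsg.Agent.Helper96.StemSLTwo Cfsg.Agent.Helper96.StPres Cfsg.Agent.Helper96.StC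

universe u v

variable {K : Type u} [Field K] {D : Type v} [Group D]

/-- `dMat` only depends on the value (helper81) -/
theorem SL2F_dMat_congr {s t : K} (h : s = t) (hs : s ≠ 0) (ht : t ≠ 0) : dMat s hs = dMat t ht := by
  subst h
  rfl

theorem SL2F_WU_one_coe : ((WU (1 : K) : SL2 K) : Matrix (Fin 2) (Fin 2) K) = !![0, 1; -1, 0] := by
  rw [WU_coe 1 one_ne_zero, inv_one]

theorem SL2F_dMat_mul (s t : K) (hs : s ≠ 0) (ht : t ≠ 0) :
    dMat (s * t) (mul_ne_zero hs ht) = dMat s hs * dMat t ht := by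
  apply Subtype.ext
  rw [Matrix.SpecialLinearGroup.coe_mul, dMat_coe, dMat_coe, dMat_coe]
  ext i j
  fin_cases i <;> fin_cases j <;> simp [Matrix.mul_apply, Fin.sum_univ_two, mul_comm]

theorem SL2F_dMat_conj_lMat (s : K) (hs : s ≠ 0) (t : K) :
    dMat s hs * lMat K t * (dMat s hs)⁻¹ = lMat K ((s⁻¹) ^ 2 * t) := by
  rw [mul_inv_eq_iff_eq_mul]
  apply Subtype.ext
  rw [Matrix.SpecialLinearGroup.coe_mul, Matrix.SpecialLinearGroup.coe_mul, dMat_coe, lMat_coe,
    lMat_coe]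
  ext i j
  fin_cases i <;> fin_cases j <;> simp [Matrix.mul_apply, Fin.sum_univ_two]
  field_simp

theorem SL2F_WU_one_conj_uMat (t : K) :
    WU (1 : K) * uMat K t * (WU (1 : K))⁻¹ = lMat K (-t) := by
  rw [mul_inv_eq_iff_eq_mul]
  apply Subtype.ext
  rw [Matrix.SpecialLinearGroup.coe_mul, Matrix.SpecialLinearGroup.coe_mul, SL2F_WU_one_coe,
    uMat_coe, lMat_coe]
  ext i j
  fin_cases i <;> fin_cases j <;> simp [Matrix.mul_apply, Fin.sum_univ_two]

theorem SL2F_WU_one_conj_lMat (t : K) :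
    WU (1 : K) * lMat K t * (WU (1 : K))⁻¹ = uMat K (-t) := by
  rw [mul_inv_eq_iff_eq_mul]
  apply Subtype.ext
  rw [Matrix.SpecialLinearGroup.coe_mul, Matrix.SpecialLinearGroup.coe_mul, SL2F_WU_one_coe,
    uMat_coe, lMat_coe]
  ext i j
  fin_cases i <;> fin_cases j <;> simp [Matrix.mul_apply, Fin.sum_univ_two]

theorem SL2F_WU_one_conj_dMat (s : K) (hs : s ≠ 0) :
    WU (1 : K) * dMat s hs * (WU (1 : K))⁻¹ = dMat s⁻¹ (inv_ne_zero hs) := by
  rw [mul_inv_eq_iff_eq_mul]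
  apply Subtype.ext
  rw [Matrix.SpecialLinearGroup.coe_mul, Matrix.SpecialLinearGroup.coe_mul, SL2F_WU_one_coe,
    dMat_coe, dMat_coe]
  ext i j
  fin_cases i <;> fin_cases j <;> simp [Matrix.mul_apply, Fin.sum_univ_two]

theorem SL2F_WU_one_sq :
    WU (1 : K) * WU (1 : K) = dMat (-1 : K) (neg_ne_zero.2 one_ne_zero) := by
  apply Subtype.ext
  rw [Matrix.SpecialLinearGroup.coe_mul, SL2F_WU_one_coe, dMat_coe]
  ext i j
  fin_cases i <;> fin_cases j <;> simp [Matrix.mul_apply, Fin.sum_univ_two, inv_neg]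

theorem sl2Facts (a : SL2 K →* D) : SL2Facts a := by
  refine ⟨?_, ?_, ?_, ?_, ?_, ?_, ?_, ?_, ?_, ?_⟩
  · intro t u
    unfold xe
    rw [uMat_add, map_mul]
  · intro t u
    unfold ye
    rw [lMat_add, map_mul]
  · intro s s'
    unfold he
    rw [← map_mul, ← SL2F_dMat_mul]
    exact congrArg a (SL2F_dMat_congr (Units.val_mul s s') _ _)
  · intro s t
    unfold he xe
    rw [← map_inv, ← map_mul, ← map_mul, dMat_conj]
  · intro s t
    unfold he ye
    rw [← map_inv, ← map_mul, ← map_mul, SL2F_dMat_conj_lMat]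
  · intro t
    unfold we xe ye
    rw [← map_inv, ← map_mul, ← map_mul, SL2F_WU_one_conj_uMat]
  · intro t
    unfold we xe ye
    rw [← map_inv, ← map_mul, ← map_mul, SL2F_WU_one_conj_lMat]
  · intro s
    unfold we he
    rw [← map_inv, ← map_mul, ← map_mul, SL2F_WU_one_conj_dMat]
    exact congrArg a (SL2F_dMat_congr (Units.val_inv_eq_inv_val s).symm _ _)
  · unfold we he
    rw [← map_mul, SL2F_WU_one_sq]
    exact congrArg a (SL2F_dMat_congr (by simp) _ _)
  · unfold we xe ye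
    rw [← map_mul, ← map_mul]
    congr 1
    unfold WU
    rw [inv_one]

end Cfsg.Agent.Helper9.Sp4P
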