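import Mathlib
import Cfsg.Agent.Helper9.Sp4P.Defs
import Cfsg.Agent.Helper9.Sp4P.Defs2
import Cfsg.Agent.Helper9.Sp4P.P_SL2F

/-!
# S2293 piece (CW) -- see `tools/helper9_s2293/README.md` and board WANTED of helper9.
The 13 cross relations are equivalent to the vanishing of the 13 words (`simp [crossWords]`, `mul_inv_eq_one`, `Commute` unfolded as `a * b * a⁻¹ * b⁻¹ = 1`; `xe a (-1) = (xe a 1)⁻¹`, `xe a 2 = xe a 1 * xe a 1` from `x_add`; `ye a 1 = we a * (xe a 1)⁻¹ * (we a)⁻¹` and `ye a (-1) = (ye a 1)⁻¹` from `w_x`; `xe L (z⁻¹ ^ 2) = (he L z)⁻¹ * xe L 1 * he L z` from `h_x` at `s = z⁻¹` and `h_mul`).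
-/

set_option autoImplicit false

namespace Cfsg.Agent.Helper9.Sp4P

open Matrix Cfsg.Agent.Helper96.StemSLTwo Cfsg.Agent.Helper96.StPres Cfsg.Agent.Helper96.StC

universe u v

variable {K : Type u} [Field K] {D : Type v} [Group D]

/-! ### rewriting lemmas (filled by helper15) -/

theorem CW_xe_zero (a : SL2 K →* D) : xe a 0 = 1 := by
  have h := (sl2Facts a).x_add 0 0
  rw [add_zero] at h
  exact mul_left_cancel (a := xe a 0) (by rw [mul_one]; exact h.symm)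

theorem CW_ye_zero (a : SL2 K →* D) : ye a 0 = 1 := by
  have h := (sl2Facts a).y_add 0 0
  rw [add_zero] at h
  exact mul_left_cancel (a := ye a 0) (by rw [mul_one]; exact h.symm)

theorem CW_xe_neg_one (a : SL2 K →* D) : xe a (-1) = (xe a 1)⁻¹ := by
  have h := (sl2Facts a).x_add 1 (-1)
  rw [add_neg_cancel, CW_xe_zero] at h
  exact eq_inv_of_mul_eq_one_right h.symm

theorem CW_ye_neg_one (a : SL2 K →* D) : ye a (-1) = (ye a 1)⁻¹ := by
  have h := (sl2Facts a).y_add 1 (-1)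
  rw [add_neg_cancel, CW_ye_zero] at h
  exact eq_inv_of_mul_eq_one_right h.symm

theorem CW_xe_two (a : SL2 K →* D) : xe a 2 = xe a 1 * xe a 1 := by
  have h := (sl2Facts a).x_add 1 1
  rwa [one_add_one_eq_two] at h

theorem CW_ye_one (a : SL2 K →* D) : ye a 1 = we a * (xe a 1)⁻¹ * (we a)⁻¹ := by
  have h := (sl2Facts a).w_x (-1)
  rw [neg_neg, CW_xe_neg_one] at h
  exact h.symm

theorem CW_he_one (a : SL2 K →* D) : he a 1 = 1 := by
  have h := (sl2Facts a).h_mul 1 1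
  rw [mul_one] at h
  exact mul_left_cancel (a := he a 1) (by rw [mul_one]; exact h.symm)

theorem CW_he_inv (a : SL2 K →* D) (z : Kˣ) : he a z⁻¹ = (he a z)⁻¹ := by
  have h := (sl2Facts a).h_mul z z⁻¹
  rw [mul_inv_cancel, CW_he_one] at h
  exact eq_inv_of_mul_eq_one_right h.symm

theorem CW_xe_inv_sq (a : SL2 K →* D) (z : Kˣ) :
    xe a (((z : K)⁻¹) ^ 2) = (he a z)⁻¹ * xe a 1 * he a z := by
  have h := (sl2Facts a).h_x z⁻¹ 1
  rw [CW_he_inv, inv_inv, Units.val_inv_eq_inv_val, mul_one] at h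
  exact h.symm

/-- a commutator word vanishes iff the two elements commute -/
theorem CW_commute_iff (a b : D) : a * b * a⁻¹ * b⁻¹ = 1 ↔ Commute a b := by
  constructor
  · intro h
    have h1 : a * b * a⁻¹ = b := mul_inv_eq_one.mp h
    show a * b = b * a
    calc a * b = (a * b * a⁻¹) * a := by group
      _ = b * a := by rw [h1]
  · intro h
    have h1 : a * b = b * a := h
    calc a * b * a⁻¹ * b⁻¹ = (a * b) * a⁻¹ * b⁻¹ := by group
      _ = (b * a) * a⁻¹ * b⁻¹ := by rw [h1]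
      _ = 1 := by group

theorem cross_of_words (L S : SL2 K →* D) (z : Kˣ)
    (h : ∀ w ∈ crossWords (xe L 1) (he L z) (we L) (xe S 1) (he S z) (we S)
      (xe S ((z : K)⁻¹)), w = 1) : Cross L S z := by
  have w1 : he S z * he L z * (he S z)⁻¹ * (he L z)⁻¹ = 1 :=
    h _ (by simp [crossWords])
  have w2 : he L z * xe S 1 * (he L z)⁻¹ * (xe S ((z : K)⁻¹))⁻¹ = 1 :=
    h _ (by simp [crossWords])
  have w3 : he S z * xe L 1 * (he S z)⁻¹ * ((he L z)⁻¹ * xe L 1 * he L z)⁻¹ = 1 :=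
    h _ (by simp [crossWords])
  have w4 : we S * he L z * (we S)⁻¹ * (he S z * he L z)⁻¹ = 1 :=
    h _ (by simp [crossWords])
  have w5 : we L * he S z * (we L)⁻¹ * (he S z * he L z * he L z)⁻¹ = 1 :=
    h _ (by simp [crossWords])
  have w6 : we S * (we L * xe S 1 * (we L)⁻¹) * (we S)⁻¹ * (we L * (xe S 1)⁻¹ * (we L)⁻¹)⁻¹ = 1 :=
    h _ (by simp [crossWords])
  have w7 : we S * (we L * (we S * (xe S 1)⁻¹ * (we S)⁻¹) * (we L)⁻¹) * (we S)⁻¹ * (we L * (we S * (xe S 1)⁻¹ * (we S)⁻¹)⁻¹ * (we L)⁻¹)⁻¹ = 1 :=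
    h _ (by simp [crossWords])
  have w8 : (we S * xe L 1 * (we S)⁻¹) * xe L 1 * (we S * xe L 1 * (we S)⁻¹)⁻¹ * (xe L 1)⁻¹ = 1 :=
    h _ (by simp [crossWords])
  have w9 : (we S * xe L 1 * (we S)⁻¹) * (we L * (xe L 1)⁻¹ * (we L)⁻¹) * (we S * xe L 1 * (we S)⁻¹)⁻¹ * (we L * (xe L 1)⁻¹ * (we L)⁻¹)⁻¹ = 1 :=
    h _ (by simp [crossWords])
  have w10 : (we S * (we L * (xe L 1)⁻¹ * (we L)⁻¹) * (we S)⁻¹) * (we L * (xe L 1)⁻¹ * (we L)⁻¹) * (we S * (we L * (xe L 1)⁻¹ * (we L)⁻¹) * (we S)⁻¹)⁻¹ * (we L * (xe L 1)⁻¹ * (we L)⁻¹)⁻¹ = 1 :=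
    h _ (by simp [crossWords])
  have w11 : xe S 1 * (we S * xe L 1 * (we S)⁻¹) * (xe S 1)⁻¹ * (we S * xe L 1 * (we S)⁻¹)⁻¹ = 1 :=
    h _ (by simp [crossWords])
  have w12 : xe S 1 * (we L * (xe S 1)⁻¹ * (we L)⁻¹) * (xe S 1)⁻¹ * (we L * (xe S 1)⁻¹ * (we L)⁻¹)⁻¹ * (we S * (xe L 1 * xe L 1) * (we S)⁻¹)⁻¹ = 1 :=
    h _ (by simp [crossWords])
  have w13 : xe L 1 * (xe S 1)⁻¹ * (xe L 1)⁻¹ * xe S 1 * ((we L * (xe S 1)⁻¹ * (we L)⁻¹) * (we S * (xe L 1)⁻¹ * (we S)⁻¹))⁻¹ = 1 :=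
    h _ (by simp [crossWords])
  refine ⟨?_, ?_, ?_, ?_, ?_, ?_, ?_, ?_, ?_, ?_, ?_, ?_, ?_⟩
  · exact (CW_commute_iff _ _).mp w1
  · exact mul_inv_eq_one.mp w2
  · rw [CW_xe_inv_sq]
    exact mul_inv_eq_one.mp w3
  · exact mul_inv_eq_one.mp w4
  · have := mul_inv_eq_one.mp w5
    rw [this, pow_two, mul_assoc]
  · rw [CW_xe_neg_one]
    exact mul_inv_eq_one.mp w6
  · rw [CW_ye_neg_one, CW_ye_one]
    exact mul_inv_eq_one.mp w7
  · exact (CW_commute_iff _ _).mp w8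
  · rw [CW_ye_one]
    exact (CW_commute_iff _ _).mp w9
  · rw [CW_ye_one]
    exact (CW_commute_iff _ _).mp w10
  · exact (CW_commute_iff _ _).mp w11
  · rw [CW_xe_neg_one, CW_xe_two]
    exact mul_inv_eq_one.mp w12
  · rw [CW_xe_neg_one, CW_xe_neg_one, inv_inv]
    exact mul_inv_eq_one.mp w13

theorem words_of_cross (L S : SL2 K →* D) (z : Kˣ) (hc : Cross L S z) :
    ∀ w ∈ crossWords (xe L 1) (he L z) (we L) (xe S 1) (he S z) (we S)
      (xe S ((z : K)⁻¹)), w = 1 := by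
  intro w hw
  simp only [crossWords, List.mem_cons, List.not_mem_nil, or_false] at hw
  rcases hw with rfl | rfl | rfl | rfl | rfl | rfl | rfl | rfl | rfl | rfl | rfl | rfl | rfl
  · exact (CW_commute_iff _ _).mpr hc.r1
  · exact mul_inv_eq_one.mpr hc.r2
  · have := hc.r3
    rw [CW_xe_inv_sq] at this
    exact mul_inv_eq_one.mpr this
  · exact mul_inv_eq_one.mpr hc.r4
  · have := hc.r5
    rw [pow_two, ← mul_assoc] at this
    exact mul_inv_eq_one.mpr this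
  · have := hc.r6
    rw [CW_xe_neg_one] at this
    exact mul_inv_eq_one.mpr this
  · have := hc.r7
    rw [CW_ye_neg_one, CW_ye_one] at this
    exact mul_inv_eq_one.mpr this
  · exact (CW_commute_iff _ _).mpr hc.r8
  · have := hc.r9
    rw [CW_ye_one] at this
    exact (CW_commute_iff _ _).mpr this
  · have := hc.r10
    rw [CW_ye_one] at this
    exact (CW_commute_iff _ _).mpr this
  · exact (CW_commute_iff _ _).mpr hc.r11
  · have := hc.r12
    rw [CW_xe_neg_one, CW_xe_two] at this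
    exact mul_inv_eq_one.mpr this
  · have := hc.r13
    rw [CW_xe_neg_one, CW_xe_neg_one, inv_inv] at this
    exact mul_inv_eq_one.mpr this

end Cfsg.Agent.Helper9.Sp4P
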