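import Mathlib
import Cfsg.Agent.Helper9.Sp4P.Defs

/-!
# S2293 piece (SQ) -- see `tools/helper9_s2293/README.md` and board WANTED of helper9.
An additive subgroup of a finite field containing `1` and closed under multiplication by squares of units is everything (every element of a finite field is a sum of two squares).
-/

set_option autoImplicit false

namespace Cfsg.Agent.Helper9.Sp4P

open Matrix Cfsg.Agent.Helper96.StemSLTwo Cfsg.Agent.Helper96.StPres Cfsg.Agent.Helper96.StC

universe u v

variable {K : Type u} [Field K] {D : Type v} [Group D]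

/-- every element of a finite field is a sum of two squares (helper81) -/
theorem SQ_exists_sq_add_sq [Fintype K] (c : K) : ∃ a b : K, a ^ 2 + b ^ 2 = c := by
  classical
  by_cases h2 : ringChar K = 2
  · obtain ⟨a, ha⟩ := FiniteField.isSquare_of_char_two h2 c
    exact ⟨a, 0, by rw [ha]; ring⟩
  · obtain ⟨a, b, hab⟩ : ∃ a b, (Polynomial.X ^ 2 : Polynomial K).eval a +
        (Polynomial.X ^ 2 - Polynomial.C c : Polynomial K).eval b = 0 :=
      FiniteField.exists_root_sum_quadratic (Polynomial.degree_X_pow 2)
        (Polynomial.degree_X_pow_sub_C (by decide) _) (FiniteField.odd_card_of_char_ne_two h2)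
    refine ⟨a, b, ?_⟩
    rw [← sub_eq_zero]
    simpa only [Polynomial.eval_C, Polynomial.eval_X, Polynomial.eval_pow, Polynomial.eval_sub,
      ← add_sub_assoc] using hab

theorem addSubgroup_eq_top_of_sq [Fintype K] (A : AddSubgroup K) (h1 : (1 : K) ∈ A)
    (hsq : ∀ (s : Kˣ) (t : K), t ∈ A → (s : K) ^ 2 * t ∈ A) : A = ⊤ := by
  classical
  have hsqmem : ∀ a : K, a ^ 2 ∈ A := by
    intro a
    by_cases ha : a = 0
    · rw [ha, zero_pow two_ne_zero]
      exact A.zero_mem
    · have h := hsq (Units.mk0 a ha) 1 h1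
      rwa [mul_one, Units.val_mk0] at h
  rw [eq_top_iff]
  intro c _
  obtain ⟨a, b, hab⟩ := SQ_exists_sq_add_sq c
  rw [← hab]
  exact A.add_mem (hsqmem a) (hsqmem b)

end Cfsg.Agent.Helper9.Sp4P
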