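import Mathlib
import Cfsg.Agent.Helper9.Sp4P.Defs
import Cfsg.Agent.Helper9.Sp4P.P_SQ

/-!
# S2293 piece (EXT1) -- see `tools/helper9_s2293/README.md` and board WANTED of helper9.
`A = {t | g x(t) g⁻¹ = x'(c t)}` is an additive subgroup containing `1`, closed under squares (conjugate by `τ s`), so `A = ⊤` by `addSubgroup_eq_top_of_sq`.
-/

set_option autoImplicit false

namespace Cfsg.Agent.Helper9.Sp4P

open Matrix Cfsg.Agent.Helper96.StemSLTwo Cfsg.Agent.Helper96.StPres Cfsg.Agent.Helper96.StC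

universe u v

variable {K : Type u} [Field K] {D : Type v} [Group D]

theorem conj_ext [Fintype K] (x x' : K → D) (hx : ∀ t u, x (t + u) = x t * x u)
    (hx' : ∀ t u, x' (t + u) = x' t * x' u) (g : D) (c : K) (τ τ' : Kˣ → D)
    (hτ : ∀ (s : Kˣ) (t : K), τ s * x t * (τ s)⁻¹ = x ((s : K) ^ 2 * t))
    (hτ' : ∀ (s : Kˣ) (t : K), τ' s * x' t * (τ' s)⁻¹ = x' ((s : K) ^ 2 * t))
    (hg : ∀ s, g * τ s * g⁻¹ = τ' s)
    (h1 : g * x 1 * g⁻¹ = x' c) : ∀ t, g * x t * g⁻¹ = x' (c * t) := by
  have hx0 : x 0 = 1 := by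
    have := hx 0 0
    rw [add_zero] at this
    exact (mul_eq_left.1 this.symm)
  have hx'0 : x' 0 = 1 := by
    have := hx' 0 0
    rw [add_zero] at this
    exact (mul_eq_left.1 this.symm)
  have hxneg : ∀ t, x (-t) = (x t)⁻¹ := by
    intro t
    have := hx t (-t)
    rw [add_neg_cancel, hx0] at this
    exact (inv_eq_of_mul_eq_one_right this.symm).symm
  have hx'neg : ∀ t, x' (-t) = (x' t)⁻¹ := by
    intro t
    have := hx' t (-t)
    rw [add_neg_cancel, hx'0] at this
    exact (inv_eq_of_mul_eq_one_right this.symm).symm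
  let A : AddSubgroup K :=
    { carrier := {t | g * x t * g⁻¹ = x' (c * t)}
      zero_mem' := by
        show g * x 0 * g⁻¹ = x' (c * 0)
        rw [hx0, mul_zero, hx'0, mul_one, mul_inv_cancel]
      add_mem' := by
        intro t u ht hu
        show g * x (t + u) * g⁻¹ = x' (c * (t + u))
        have ht' : g * x t * g⁻¹ = x' (c * t) := ht
        have hu' : g * x u * g⁻¹ = x' (c * u) := hu
        rw [hx, mul_add, hx', ← ht', ← hu']
        group
      neg_mem' := by
        intro t ht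
        show g * x (-t) * g⁻¹ = x' (c * (-t))
        have ht' : g * x t * g⁻¹ = x' (c * t) := ht
        rw [hxneg, mul_neg, hx'neg, ← ht']
        group }
  have hA1 : (1 : K) ∈ A := by
    show g * x 1 * g⁻¹ = x' (c * 1)
    rw [mul_one]; exact h1
  have hAsq : ∀ (s : Kˣ) (t : K), t ∈ A → (s : K) ^ 2 * t ∈ A := by
    intro s t ht
    have ht' : g * x t * g⁻¹ = x' (c * t) := ht
    show g * x ((s : K) ^ 2 * t) * g⁻¹ = x' (c * ((s : K) ^ 2 * t))
    have e : c * ((s : K) ^ 2 * t) = (s : K) ^ 2 * (c * t) := by ring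
    rw [e, ← hτ, ← hτ', ← ht', ← hg]
    group
  have htop := addSubgroup_eq_top_of_sq A hA1 hAsq
  intro t
  have : t ∈ A := by rw [htop]; exact AddSubgroup.mem_top t
  exact this

end Cfsg.Agent.Helper9.Sp4P
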