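import Mathlib


/-!
# S2293 piece (LIFT) -- see `tools/helper9_s2293/README.md` and board WANTED of helper9.
A map of generators sending relators to relators induces a homomorphism of presented groups: `PresentedGroup.toGroup` with `f a = PresentedGroup.of (ι a)`; `FreeGroup.lift (of ∘ ι) = (mk rels').comp (FreeGroup.map ι)` by `FreeGroup.ext_hom`; relators go to `1` by `PresentedGroup.one_of_mem`.
-/

set_option autoImplicit false

namespace Cfsg.Agent.Helper9.Sp4P



universe u v

theorem exists_presented_map {α β : Type*} (ι : α → β) (rels : Set (FreeGroup α))
    (rels' : Set (FreeGroup β)) (h : ∀ r ∈ rels, FreeGroup.map ι r ∈ rels') :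
    ∃ f : PresentedGroup rels →* PresentedGroup rels',
      ∀ w : FreeGroup α, f (PresentedGroup.mk rels w) = PresentedGroup.mk rels' (FreeGroup.map ι w) := by
  have e : FreeGroup.lift (fun a => PresentedGroup.of (rels := rels') (ι a)) =
      (PresentedGroup.mk rels').comp (FreeGroup.map ι) := by
    ext a
    simp [PresentedGroup.of]
  refine ⟨PresentedGroup.toGroup (rels := rels)
    (f := fun a => PresentedGroup.of (rels := rels') (ι a)) ?_, ?_⟩
  · intro r hr
    rw [e]
    exact PresentedGroup.one_of_mem (h r hr)
  · intro w
    have h2 : (PresentedGroup.toGroup (rels := rels)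
        (f := fun a => PresentedGroup.of (rels := rels') (ι a)) (by
          intro r hr
          rw [e]
          exact PresentedGroup.one_of_mem (h r hr))).comp (PresentedGroup.mk rels) =
        (PresentedGroup.mk rels').comp (FreeGroup.map ι) := by
      ext a
      simp only [MonoidHom.comp_apply, FreeGroup.map.of]
      exact PresentedGroup.toGroup.of _
    exact DFunLike.congr_fun h2 w

end Cfsg.Agent.Helper9.Sp4P
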