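import Mathlib
import Cfsg.Agent.Helper9.Sp4P.Defs
import Cfsg.Agent.Helper9.Sp4P.P_SQ

/-!
# S2293 piece (EXT2) -- see `tools/helper9_s2293/README.md` and board WANTED of helper9.
First `{u | Commute (x 1) (x' u)} = ⊤` (closed under squares by `τ'`), then for each `u`, `{t | Commute (x t) (x' u)} = ⊤` (closed under squares by `τ`).
-/

set_option autoImplicit false

namespace Cfsg.Agent.Helper9.Sp4P

open Matrix Cfsg.Agent.Helper96.StemSLTwo Cfsg.Agent.Helper96.StPres Cfsg.Agent.Helper96.StC

universe u v

variable {K : Type u} [Field K] {D : Type v} [Group D]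

theorem comm_ext [Fintype K] (x x' : K → D) (hx : ∀ t u, x (t + u) = x t * x u)
    (hx' : ∀ t u, x' (t + u) = x' t * x' u) (τ τ' : Kˣ → D)
    (hτ : ∀ (s : Kˣ) (t : K), τ s * x t * (τ s)⁻¹ = x ((s : K) ^ 2 * t))
    (hτc : ∀ (s : Kˣ) (u : K), Commute (τ s) (x' u))
    (hτ' : ∀ (s : Kˣ) (u : K), τ' s * x' u * (τ' s)⁻¹ = x' ((s : K) ^ 2 * u))
    (hτ'c : ∀ (s : Kˣ) (t : K), Commute (τ' s) (x t))
    (h1 : Commute (x 1) (x' 1)) : ∀ t u, Commute (x t) (x' u) := by
  have hx0 : x 0 = 1 := by
    have := hx 0 0
    rw [add_zero] at this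
    exact (mul_eq_left.1 this.symm)
  have hx'0 : x' 0 = 1 := by
    have := hx' 0 0
    rw [add_zero] at this
    exact (mul_eq_left.1 this.symm)
  have hxneg : ∀ t, x (-t) = (x t)⁻¹ := by
    intro t
    have := hx t (-t)
    rw [add_neg_cancel, hx0] at this
    exact (inv_eq_of_mul_eq_one_right this.symm).symm
  have hx'neg : ∀ t, x' (-t) = (x' t)⁻¹ := by
    intro t
    have := hx' t (-t)
    rw [add_neg_cancel, hx'0] at this
    exact (inv_eq_of_mul_eq_one_right this.symm).symm
  -- step 1: `x 1` commutes with every `x' u`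
  let B : AddSubgroup K :=
    { carrier := {u | Commute (x 1) (x' u)}
      zero_mem' := by
        show Commute (x 1) (x' 0)
        rw [hx'0]; exact Commute.one_right _
      add_mem' := by
        intro t u ht hu
        show Commute (x 1) (x' (t + u))
        rw [hx']
        exact Commute.mul_right ht hu
      neg_mem' := by
        intro t ht
        show Commute (x 1) (x' (-t))
        rw [hx'neg]
        exact Commute.inv_right ht }
  have hB1 : (1 : K) ∈ B := h1
  have hBsq : ∀ (s : Kˣ) (u : K), u ∈ B → (s : K) ^ 2 * u ∈ B := by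
    intro s u hu
    have hu' : Commute (x 1) (x' u) := hu
    show Commute (x 1) (x' ((s : K) ^ 2 * u))
    rw [← hτ']
    have hc : Commute (x 1) (τ' s) := (hτ'c s 1).symm
    exact (hc.mul_right hu').mul_right hc.inv_right
  have hBtop := addSubgroup_eq_top_of_sq B hB1 hBsq
  have hstep1 : ∀ u, Commute (x 1) (x' u) := by
    intro u
    have : u ∈ B := by rw [hBtop]; exact AddSubgroup.mem_top u
    exact this
  -- step 2
  intro t u
  let A : AddSubgroup K :=
    { carrier := {t | Commute (x t) (x' u)}
      zero_mem' := by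
        show Commute (x 0) (x' u)
        rw [hx0]; exact Commute.one_left _
      add_mem' := by
        intro t t' ht ht'
        show Commute (x (t + t')) (x' u)
        rw [hx]
        exact Commute.mul_left ht ht'
      neg_mem' := by
        intro t ht
        show Commute (x (-t)) (x' u)
        rw [hxneg]
        exact Commute.inv_left ht }
  have hA1 : (1 : K) ∈ A := hstep1 u
  have hAsq : ∀ (s : Kˣ) (t : K), t ∈ A → (s : K) ^ 2 * t ∈ A := by
    intro s t ht
    have ht' : Commute (x t) (x' u) := ht
    show Commute (x ((s : K) ^ 2 * t)) (x' u)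
    rw [← hτ]
    have hc : Commute (τ s) (x' u) := hτc s u
    exact (hc.mul_left ht').mul_left hc.inv_left
  have hAtop := addSubgroup_eq_top_of_sq A hA1 hAsq
  have : t ∈ A := by rw [hAtop]; exact AddSubgroup.mem_top t
  exact this

end Cfsg.Agent.Helper9.Sp4P
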