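import Mathlib
import Cfsg.Agent.Helper9.Sp4P.Defs
import Cfsg.Agent.Helper9.Sp4P.P_SL2F

/-!
# S2293 piece (TOR1a) -- see `tools/helper9_s2293/README.md` and board WANTED of helper9.
From `hc.r1` and `hz`: `he a (z ^ n) = he a z ^ n` (`SL2Facts.h_mul`), powers of commuting elements commute.
-/

set_option autoImplicit false

namespace Cfsg.Agent.Helper9.Sp4P

open Matrix Cfsg.Agent.Helper96.StemSLTwo Cfsg.Agent.Helper96.StPres Cfsg.Agent.Helper96.StC

universe u v

variable {K : Type u} [Field K] {D : Type v} [Group D]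

theorem torus_comm_he_one (a : SL2 K →* D) : he a 1 = 1 := by
  have h := (sl2Facts a).h_mul 1 1
  rw [mul_one] at h
  exact (mul_eq_left.mp h.symm)

theorem torus_comm_he_pow (a : SL2 K →* D) (z : Kˣ) (n : ℕ) : he a (z ^ n) = he a z ^ n := by
  induction n with
  | zero => rw [pow_zero, pow_zero, torus_comm_he_one]
  | succ n ih => rw [pow_succ, pow_succ, (sl2Facts a).h_mul, ih]

theorem torus_comm {L S : SL2 K →* D} {z : Kˣ} (hz : ∀ s : Kˣ, ∃ n : ℕ, z ^ n = s) (hc : Cross L S z) :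
    ∀ s s' : Kˣ, Commute (he S s) (he L s') := by
  intro s s'
  obtain ⟨n, rfl⟩ := hz s
  obtain ⟨m, rfl⟩ := hz s'
  rw [torus_comm_he_pow, torus_comm_he_pow]
  exact hc.r1.pow_pow n m

end Cfsg.Agent.Helper9.Sp4P
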