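import Mathlib
import Cfsg.Agent.Helper9.Sp4P.Defs
import Cfsg.Agent.Helper9.Sp4P.P_SL2F
import Cfsg.Agent.Helper9.Sp4P.P_TOR1a

/-!
# S2293 piece (TOR1b) -- see `tools/helper9_s2293/README.md` and board WANTED of helper9.
From `hc.r4`, `hc.r5` for `s = z`, then powers (`hz`, `torus_comm`); the inverse conjugations from `w_sq` (`we a * we a = he a (-1)` is in the torus, which is commutative by `torus_comm` and `h_mul`).
-/

set_option autoImplicit false

namespace Cfsg.Agent.Helper9.Sp4P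

open Matrix Cfsg.Agent.Helper96.StemSLTwo Cfsg.Agent.Helper96.StPres Cfsg.Agent.Helper96.StC

universe u v

variable {K : Type u} [Field K] {D : Type v} [Group D]

/-- (TOR1b) aux: `he a 1 = 1` -/
theorem tor1b_he_one {a : SL2 K →* D} (F : SL2Facts a) : he a 1 = 1 := by
  have h := F.h_mul 1 1
  rw [one_mul] at h
  exact (left_eq_mul.mp h)

/-- (TOR1b) aux: `he a (s ^ n) = he a s ^ n` -/
theorem tor1b_he_pow {a : SL2 K →* D} (F : SL2Facts a) (s : Kˣ) (n : ℕ) :
    he a (s ^ n) = he a s ^ n := by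
  induction n with
  | zero => simp [tor1b_he_one F]
  | succ n ih => rw [pow_succ, pow_succ, F.h_mul, ih]

/-- (TOR1b) aux: the torus of `a` is commutative -/
theorem tor1b_he_comm {a : SL2 K →* D} (F : SL2Facts a) (s s' : Kˣ) :
    Commute (he a s) (he a s') := by
  unfold Commute SemiconjBy
  rw [← F.h_mul, ← F.h_mul, mul_comm]

/-- (TOR1b) aux: conjugation by `w` of a power -/
theorem tor1b_conj_pow (w g : D) (n : ℕ) : w * g ^ n * w⁻¹ = (w * g * w⁻¹) ^ n := by
  rw [conj_pow]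

/-- (TOR1b) aux: if `w * w = h` and `h` commutes with `w * X * w⁻¹`, then the inverse conjugation
agrees with the conjugation -/
theorem tor1b_inv_conj {w h X Y : D} (hw : w * w = h) (hX : w * X * w⁻¹ = Y) (hY : Commute h Y) :
    w⁻¹ * X * w = Y := by
  subst hw
  calc w⁻¹ * X * w = (w * w)⁻¹ * (w * X * w⁻¹) * (w * w) := by group
    _ = (w * w)⁻¹ * Y * (w * w) := by rw [hX]
    _ = Y := by
        rw [mul_assoc, ← hY.eq, ← mul_assoc, inv_mul_cancel, one_mul]

theorem weyl_torus {L S : SL2 K →* D} {z : Kˣ} (hz : ∀ s : Kˣ, ∃ n : ℕ, z ^ n = s) (hc : Cross L S z) :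
    (∀ s : Kˣ, we S * he L s * (we S)⁻¹ = he S s * he L s) ∧
    (∀ s : Kˣ, (we S)⁻¹ * he L s * we S = he S s * he L s) ∧
    (∀ s : Kˣ, we L * he S s * (we L)⁻¹ = he S s * he L s ^ 2) ∧
    (∀ s : Kˣ, (we L)⁻¹ * he S s * we L = he S s * he L s ^ 2) := by
  have FL : SL2Facts L := sl2Facts L
  have FS : SL2Facts S := sl2Facts S
  have hcomm := torus_comm hz hc
  have p1 : ∀ s : Kˣ, we S * he L s * (we S)⁻¹ = he S s * he L s := by
    intro s
    obtain ⟨n, rfl⟩ := hz s
    rw [tor1b_he_pow FL, tor1b_he_pow FS, tor1b_conj_pow, hc.r4, (hcomm z z).mul_pow]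
  have p3 : ∀ s : Kˣ, we L * he S s * (we L)⁻¹ = he S s * he L s ^ 2 := by
    intro s
    obtain ⟨n, rfl⟩ := hz s
    rw [tor1b_he_pow FL, tor1b_he_pow FS, tor1b_conj_pow, hc.r5,
      ((hcomm z z).pow_right 2).mul_pow, pow_right_comm]
  refine ⟨p1, ?_, p3, ?_⟩
  · intro s
    refine tor1b_inv_conj FS.w_sq (p1 s) ?_
    exact (tor1b_he_comm FS (-1) s).mul_right (hcomm (-1) s)
  · intro s
    refine tor1b_inv_conj FL.w_sq (p3 s) ?_
    exact ((hcomm s (-1)).symm).mul_right ((tor1b_he_comm FL (-1) s).pow_right 2)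

end Cfsg.Agent.Helper9.Sp4P
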