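import Mathlib
import Cfsg.Agent.Helper9.Sp4P.Defs
import Cfsg.Agent.Helper9.Sp4P.P_SL2F
import Cfsg.Agent.Helper9.Sp4P.P_TOR1a
import Cfsg.Agent.Helper9.Sp4P.P_EXT1

/-!
# S2293 piece (TOR2a) -- see `tools/helper9_s2293/README.md` and board WANTED of helper9.
`conj_ext` with `g = he L z`, `x = x' = xe S`, `τ = τ' = he S` (`SL2Facts.h_x`, `torus_comm`), base `hc.r2`; then all `s = z ^ n` by induction. Same for the second with `hc.r3`.
-/

set_option autoImplicit false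

namespace Cfsg.Agent.Helper9.Sp4P

open Matrix Cfsg.Agent.Helper96.StemSLTwo Cfsg.Agent.Helper96.StPres Cfsg.Agent.Helper96.StC

universe u v

variable {K : Type u} [Field K] {D : Type v} [Group D]

/-- (TOR2a) aux: `he a 1 = 1` -/
theorem tor2a_he_one {a : SL2 K →* D} (F : SL2Facts a) : he a 1 = 1 := by
  have h := F.h_mul 1 1
  rw [one_mul] at h
  exact (left_eq_mul.mp h)

/-- (TOR2a) aux: if `he a z` acts on `xe b` by the scalar `c`, then `he a (z ^ n)` acts by `c ^ n` -/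
theorem tor2a_pow_act {a b : SL2 K →* D} (Fa : SL2Facts a) (z : Kˣ) (c : K)
    (h : ∀ t, he a z * xe b t * (he a z)⁻¹ = xe b (c * t)) (n : ℕ) :
    ∀ t, he a (z ^ n) * xe b t * (he a (z ^ n))⁻¹ = xe b (c ^ n * t) := by
  induction n with
  | zero =>
    intro t
    simp [tor2a_he_one Fa]
  | succ n ih =>
    intro t
    rw [pow_succ, Fa.h_mul, _root_.mul_inv_rev]
    calc he a (z ^ n) * he a z * xe b t * ((he a z)⁻¹ * (he a (z ^ n))⁻¹)
        = he a (z ^ n) * (he a z * xe b t * (he a z)⁻¹) * (he a (z ^ n))⁻¹ := by group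
      _ = xe b (c ^ n * (c * t)) := by rw [h, ih]
      _ = xe b (c ^ (n + 1) * t) := by rw [pow_succ, mul_assoc]

theorem torus_x [Fintype K] {L S : SL2 K →* D} {z : Kˣ} (hz : ∀ s : Kˣ, ∃ n : ℕ, z ^ n = s) (hc : Cross L S z) :
    (∀ (s : Kˣ) (t : K), he L s * xe S t * (he L s)⁻¹ = xe S ((s : K)⁻¹ * t)) ∧
    (∀ (s : Kˣ) (t : K), he S s * xe L t * (he S s)⁻¹ = xe L (((s : K)⁻¹) ^ 2 * t)) := by
  have FL : SL2Facts L := sl2Facts L
  have FS : SL2Facts S := sl2Facts S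
  have hcomm := torus_comm hz hc
  have b1 : ∀ t, he L z * xe S t * (he L z)⁻¹ = xe S ((z : K)⁻¹ * t) :=
    conj_ext (xe S) (xe S) FS.x_add FS.x_add (he L z) ((z : K)⁻¹) (he S) (he S) FS.h_x FS.h_x
      (fun s => mul_inv_eq_iff_eq_mul.mpr (hcomm s z).symm.eq) hc.r2
  have b2 : ∀ t, he S z * xe L t * (he S z)⁻¹ = xe L (((z : K)⁻¹) ^ 2 * t) :=
    conj_ext (xe L) (xe L) FL.x_add FL.x_add (he S z) (((z : K)⁻¹) ^ 2) (he L) (he L) FL.h_x FL.h_x
      (fun s => mul_inv_eq_iff_eq_mul.mpr (hcomm z s).eq) hc.r3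
  refine ⟨?_, ?_⟩
  · intro s t
    obtain ⟨n, rfl⟩ := hz s
    rw [tor2a_pow_act FL z _ b1 n t]
    congr 1
    simp
  · intro s t
    obtain ⟨n, rfl⟩ := hz s
    rw [tor2a_pow_act FS z _ b2 n t]
    congr 1
    simp only [Units.val_pow_eq_pow_val, inv_pow]
    rw [pow_right_comm]

end Cfsg.Agent.Helper9.Sp4P
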