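import Mathlib
import Cfsg.Agent.Helper9.Sp4P.Defs
import Cfsg.Agent.Helper9.Sp4P.P_SL2F
import Cfsg.Agent.Helper9.Sp4P.P_TOR1a
import Cfsg.Agent.Helper9.Sp4P.P_TOR1b
import Cfsg.Agent.Helper9.Sp4P.P_TOR2a

/-!
# S2293 piece (TOR2b) -- see `tools/helper9_s2293/README.md` and board WANTED of helper9.
`ye S t = we S * xe S (-t) * (we S)⁻¹` (`w_x`), `he L s * we S = we S * ((we S)⁻¹ * he L s * we S) = we S * (he S s * he L s)` (`weyl_torus`), then `h_x` and `torus_x`: `he S s * he L s` acts on `xe S` by `s² s⁻¹ = s`. Same for `ye L` with `he S s * he L s ^ 2` acting on `xe L` by `s⁻² s⁴ = s²`.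
-/

set_option autoImplicit false

namespace Cfsg.Agent.Helper9.Sp4P

open Matrix Cfsg.Agent.Helper96.StemSLTwo Cfsg.Agent.Helper96.StPres Cfsg.Agent.Helper96.StC

universe u v

variable {K : Type u} [Field K] {D : Type v} [Group D]

/-- transport of a conjugation through `h * w = w * k` -/
theorem conj_transport_aux (h w k x : D) (hw : h * w = w * k) :
    h * (w * x * w⁻¹) * h⁻¹ = w * (k * x * k⁻¹) * w⁻¹ := by
  have h1 : w⁻¹ * h⁻¹ = k⁻¹ * w⁻¹ := by
    rw [← _root_.mul_inv_rev, hw, _root_.mul_inv_rev]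
  calc h * (w * x * w⁻¹) * h⁻¹ = (h * w) * x * (w⁻¹ * h⁻¹) := by group
    _ = (w * k) * x * (k⁻¹ * w⁻¹) := by rw [hw, h1]
    _ = w * (k * x * k⁻¹) * w⁻¹ := by group

theorem torus_y [Fintype K] {L S : SL2 K →* D} {z : Kˣ} (hz : ∀ s : Kˣ, ∃ n : ℕ, z ^ n = s) (hc : Cross L S z) :
    (∀ (s : Kˣ) (t : K), he L s * ye S t * (he L s)⁻¹ = ye S ((s : K) * t)) ∧
    (∀ (s : Kˣ) (t : K), he S s * ye L t * (he S s)⁻¹ = ye L ((s : K) ^ 2 * t)) := by
  have fS := sl2Facts S
  have fL := sl2Facts L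
  obtain ⟨hx1, hx2⟩ := torus_x hz hc
  obtain ⟨_, hw2, _, hw4⟩ := weyl_torus hz hc
  constructor
  · intro s t
    have hy : ye S t = we S * xe S (-t) * (we S)⁻¹ := by
      rw [fS.w_x, neg_neg]
    have hw : he L s * we S = we S * (he S s * he L s) := by
      rw [← hw2 s]; group
    rw [hy, conj_transport_aux _ _ _ _ hw]
    have hk : he S s * he L s * xe S (-t) * (he S s * he L s)⁻¹ = xe S (-((s : K) * t)) := by
      calc he S s * he L s * xe S (-t) * (he S s * he L s)⁻¹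
          = he S s * (he L s * xe S (-t) * (he L s)⁻¹) * (he S s)⁻¹ := by group
        _ = xe S ((s : K) ^ 2 * ((s : K)⁻¹ * (-t))) := by rw [hx1, fS.h_x]
        _ = xe S (-((s : K) * t)) := by
            congr 1
            have hs : (s : K) ≠ 0 := s.ne_zero
            field_simp
    rw [hk, fS.w_x, neg_neg]
  · intro s t
    have hy : ye L t = we L * xe L (-t) * (we L)⁻¹ := by
      rw [fL.w_x, neg_neg]
    have hw : he S s * we L = we L * (he S s * he L s ^ 2) := by
      rw [← hw4 s]; group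
    rw [hy, conj_transport_aux _ _ _ _ hw]
    have hk : he S s * he L s ^ 2 * xe L (-t) * (he S s * he L s ^ 2)⁻¹ =
        xe L (-((s : K) ^ 2 * t)) := by
      calc he S s * he L s ^ 2 * xe L (-t) * (he S s * he L s ^ 2)⁻¹
          = he S s * (he L s * (he L s * xe L (-t) * (he L s)⁻¹) * (he L s)⁻¹) *
              (he S s)⁻¹ := by rw [pow_two]; group
        _ = xe L (((s : K)⁻¹) ^ 2 * ((s : K) ^ 2 * ((s : K) ^ 2 * (-t)))) := by
            rw [fL.h_x, fL.h_x, hx2]
        _ = xe L (-((s : K) ^ 2 * t)) := by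
            congr 1
            have hs : (s : K) ≠ 0 := s.ne_zero
            field_simp
    rw [hk, fL.w_x, neg_neg]

end Cfsg.Agent.Helper9.Sp4P
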