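import Mathlib
import Cfsg.Agent.Helper9.Sp4P.Defs
import Cfsg.Agent.Helper9.Sp4P.P_SL2F
import Cfsg.Agent.Helper9.Sp4P.P_TOR1a
import Cfsg.Agent.Helper9.Sp4P.P_TOR1b
import Cfsg.Agent.Helper9.Sp4P.P_TOR2a
import Cfsg.Agent.Helper9.Sp4P.P_TOR2b

/-!
# S2293 piece (TOR3a) -- see `tools/helper9_s2293/README.md` and board WANTED of helper9.
Eight cases `γ`. `a, ma`: `h_x, h_y` of `S`; `b, mb`: `torus_x.2`, `torus_y.2`; `ab, mab`: `he S s * we L = we L * ((we L)⁻¹ * he S s * we L) = we L * (he S s * he L s ^ 2)` (`weyl_torus`), acting trivially on `xe S`, `ye S`; `aab, maab`: `he S s * we S = we S * he S s⁻¹` (`w_h`), acting on `xe L` by `s²`.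
-/

set_option autoImplicit false

namespace Cfsg.Agent.Helper9.Sp4P

open Matrix Cfsg.Agent.Helper96.StemSLTwo Cfsg.Agent.Helper96.StPres Cfsg.Agent.Helper96.StC

universe u v

variable {K : Type u} [Field K] {D : Type v} [Group D]

theorem torusAct_S [Fintype K] {L S : SL2 K →* D} {z : Kˣ} (hz : ∀ s : Kˣ, ∃ n : ℕ, z ^ n = s) (hc : Cross L S z) :
    ∀ (γ : Rt) (s : Kˣ) (t : K),
      he S s * RR L S γ t * (he S s)⁻¹ = RR L S γ (((s ^ chS γ : Kˣ) : K) * t) := by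
  have fS := sl2Facts S
  have fL := sl2Facts L
  obtain ⟨hx1, hx2⟩ := torus_x hz hc
  obtain ⟨hy1, hy2⟩ := torus_y hz hc
  obtain ⟨-, -, -, hw4⟩ := weyl_torus hz hc
  have c2 : ∀ s : Kˣ, ((s ^ (2 : ℤ) : Kˣ) : K) = (s : K) ^ 2 := by
    intro s
    rw [zpow_ofNat, Units.val_pow_eq_pow_val]
  have cm2 : ∀ s : Kˣ, ((s ^ (-2 : ℤ) : Kˣ) : K) = ((s : K)⁻¹) ^ 2 := by
    intro s
    rw [_root_.zpow_neg, zpow_ofNat, Units.val_inv_eq_inv_val, Units.val_pow_eq_pow_val, inv_pow]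
  have c0 : ∀ s : Kˣ, ((s ^ (0 : ℤ) : Kˣ) : K) = 1 := by
    intro s
    rw [zpow_zero, Units.val_one]
  have conjW : ∀ (H W H' X : D), W⁻¹ * H * W = H' →
      H * (W * X * W⁻¹) * H⁻¹ = W * (H' * X * H'⁻¹) * W⁻¹ := by
    intro H W H' X h
    subst h
    group
  have hLsq : ∀ s : Kˣ, he L s ^ 2 = he L (s ^ 2) := by
    intro s
    rw [pow_two, pow_two, fL.h_mul]
  have hwS : ∀ s : Kˣ, (we S)⁻¹ * he S s * we S = he S s⁻¹ := by
    intro s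
    have h := fS.w_h s⁻¹
    rw [inv_inv] at h
    rw [← h]
    group
  have hsplit : ∀ (A B X : D), (A * B) * X * (A * B)⁻¹ = A * (B * X * B⁻¹) * A⁻¹ := by
    intro A B X
    group
  intro γ s t
  have hs0 : (s : K) ≠ 0 := s.ne_zero
  cases γ
  · -- a
    change he S s * xe S t * (he S s)⁻¹ = xe S (((s ^ (2 : ℤ) : Kˣ) : K) * t)
    rw [c2, fS.h_x]
  · -- ma
    change he S s * ye S t * (he S s)⁻¹ = ye S (((s ^ (-2 : ℤ) : Kˣ) : K) * t)
    rw [cm2, fS.h_y]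
  · -- b
    change he S s * xe L t * (he S s)⁻¹ = xe L (((s ^ (-2 : ℤ) : Kˣ) : K) * t)
    rw [cm2, hx2]
  · -- mb
    change he S s * ye L t * (he S s)⁻¹ = ye L (((s ^ (2 : ℤ) : Kˣ) : K) * t)
    rw [c2, hy2]
  · -- ab
    change he S s * (we L * xe S (-t) * (we L)⁻¹) * (he S s)⁻¹ =
      we L * xe S (-(((s ^ (0 : ℤ) : Kˣ) : K) * t)) * (we L)⁻¹
    rw [conjW _ _ _ _ (hw4 s), hLsq, hsplit, hx1, fS.h_x, c0, one_mul]
    congr 3
    rw [Units.val_pow_eq_pow_val]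
    field_simp
  · -- mab
    change he S s * (we L * ye S (-t) * (we L)⁻¹) * (he S s)⁻¹ =
      we L * ye S (-(((s ^ (0 : ℤ) : Kˣ) : K) * t)) * (we L)⁻¹
    rw [conjW _ _ _ _ (hw4 s), hLsq, hsplit, hy1, fS.h_y, c0, one_mul]
    congr 3
    rw [Units.val_pow_eq_pow_val]
    field_simp
  · -- aab
    change he S s * (we S * xe L t * (we S)⁻¹) * (he S s)⁻¹ =
      we S * xe L (((s ^ (2 : ℤ) : Kˣ) : K) * t) * (we S)⁻¹
    rw [conjW _ _ _ _ (hwS s), hx2, c2]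
    congr 3
    rw [Units.val_inv_eq_inv_val, inv_inv]
  · -- maab
    change he S s * (we S * ye L t * (we S)⁻¹) * (he S s)⁻¹ =
      we S * ye L (((s ^ (-2 : ℤ) : Kˣ) : K) * t) * (we S)⁻¹
    rw [conjW _ _ _ _ (hwS s), hy2, cm2]
    congr 3
    rw [Units.val_inv_eq_inv_val]

end Cfsg.Agent.Helper9.Sp4P
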