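import Mathlib
import Cfsg.Agent.Helper9.Sp4P.Defs
import Cfsg.Agent.Helper9.Sp4P.P_SL2F
import Cfsg.Agent.Helper9.Sp4P.P_TOR1a
import Cfsg.Agent.Helper9.Sp4P.P_TOR1b
import Cfsg.Agent.Helper9.Sp4P.P_TOR2a
import Cfsg.Agent.Helper9.Sp4P.P_TOR2b

/-!
# S2293 piece (TOR3b) -- see `tools/helper9_s2293/README.md` and board WANTED of helper9.
Eight cases `γ`. `b, mb`: `h_x, h_y` of `L`; `a, ma`: `torus_x.1`, `torus_y.1`; `ab, mab`: `he L s * we L = we L * he L s⁻¹` (`w_h`), acting on `xe S` by `s`; `aab, maab`: `he L s * we S = we S * ((we S)⁻¹ * he L s * we S) = we S * (he S s * he L s)`, acting trivially on `xe L`, `ye L`.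
-/

set_option autoImplicit false

namespace Cfsg.Agent.Helper9.Sp4P

open Matrix Cfsg.Agent.Helper96.StemSLTwo Cfsg.Agent.Helper96.StPres Cfsg.Agent.Helper96.StC

universe u v

variable {K : Type u} [Field K] {D : Type v} [Group D]

theorem tor3b_conj_of_comm {h h' w x : D} (hw : h * w = w * h') :
    h * (w * x * w⁻¹) * h⁻¹ = w * (h' * x * h'⁻¹) * w⁻¹ := by
  have h1 : h = w * h' * w⁻¹ := by rw [← hw]; group
  rw [h1]; group

theorem tor3b_val_zpow_neg_one (s : Kˣ) : ((s ^ (-1 : ℤ) : Kˣ) : K) = (s : K)⁻¹ := by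
  rw [_root_.zpow_neg_one, Units.val_inv_eq_inv_val]

theorem tor3b_val_zpow_two (s : Kˣ) : ((s ^ (2 : ℤ) : Kˣ) : K) = (s : K) ^ 2 := by
  rw [zpow_ofNat, Units.val_pow_eq_pow_val]

theorem tor3b_val_zpow_neg_two (s : Kˣ) : ((s ^ (-2 : ℤ) : Kˣ) : K) = ((s : K)⁻¹) ^ 2 := by
  rw [_root_.zpow_neg, zpow_ofNat, Units.val_inv_eq_inv_val, Units.val_pow_eq_pow_val, inv_pow]

theorem torusAct_L [Fintype K] {L S : SL2 K →* D} {z : Kˣ} (hz : ∀ s : Kˣ, ∃ n : ℕ, z ^ n = s) (hc : Cross L S z) :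
    ∀ (γ : Rt) (s : Kˣ) (t : K),
      he L s * RR L S γ t * (he L s)⁻¹ = RR L S γ (((s ^ chL γ : Kˣ) : K) * t) := by
  have FL := sl2Facts L
  obtain ⟨hxS, hxL⟩ := torus_x hz hc
  obtain ⟨hyS, hyL⟩ := torus_y hz hc
  obtain ⟨-, hwt, -, -⟩ := weyl_torus hz hc
  -- `he L s * we L = we L * he L s⁻¹`
  have hLw : ∀ s : Kˣ, he L s * we L = we L * he L s⁻¹ := by
    intro s
    have h := FL.w_h s⁻¹
    rw [inv_inv] at h
    rw [← h]; group
  -- `he L s * we S = we S * (he S s * he L s)`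
  have hSw : ∀ s : Kˣ, he L s * we S = we S * (he S s * he L s) := by
    intro s
    rw [← hwt s]; group
  intro γ s t
  cases γ with
  | a =>
    show he L s * xe S t * (he L s)⁻¹ = xe S (((s ^ (-1 : ℤ) : Kˣ) : K) * t)
    rw [hxS, tor3b_val_zpow_neg_one]
  | ma =>
    show he L s * ye S t * (he L s)⁻¹ = ye S (((s ^ (1 : ℤ) : Kˣ) : K) * t)
    rw [hyS, zpow_one]
  | b =>
    show he L s * xe L t * (he L s)⁻¹ = xe L (((s ^ (2 : ℤ) : Kˣ) : K) * t)
    rw [FL.h_x, tor3b_val_zpow_two]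
  | mb =>
    show he L s * ye L t * (he L s)⁻¹ = ye L (((s ^ (-2 : ℤ) : Kˣ) : K) * t)
    rw [FL.h_y, tor3b_val_zpow_neg_two]
  | ab =>
    show he L s * (we L * xe S (-t) * (we L)⁻¹) * (he L s)⁻¹ =
      we L * xe S (-(((s ^ (1 : ℤ) : Kˣ) : K) * t)) * (we L)⁻¹
    rw [tor3b_conj_of_comm (hLw s), hxS, zpow_one]
    congr 3
    rw [Units.val_inv_eq_inv_val, inv_inv, mul_neg]
  | mab =>
    show he L s * (we L * ye S (-t) * (we L)⁻¹) * (he L s)⁻¹ =
      we L * ye S (-(((s ^ (-1 : ℤ) : Kˣ) : K) * t)) * (we L)⁻¹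
    rw [tor3b_conj_of_comm (hLw s), hyS, tor3b_val_zpow_neg_one]
    congr 3
    rw [Units.val_inv_eq_inv_val, mul_neg]
  | aab =>
    show he L s * (we S * xe L t * (we S)⁻¹) * (he L s)⁻¹ =
      we S * xe L (((s ^ (0 : ℤ) : Kˣ) : K) * t) * (we S)⁻¹
    rw [tor3b_conj_of_comm (hSw s)]
    have h1 : he S s * he L s * xe L t * (he S s * he L s)⁻¹ =
        he S s * (he L s * xe L t * (he L s)⁻¹) * (he S s)⁻¹ := by group
    rw [h1, FL.h_x, hxL, zpow_zero, Units.val_one, one_mul]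
    congr 3
    have hs : (s : K) ≠ 0 := s.ne_zero
    field_simp
  | maab =>
    show he L s * (we S * ye L t * (we S)⁻¹) * (he L s)⁻¹ =
      we S * ye L (((s ^ (0 : ℤ) : Kˣ) : K) * t) * (we S)⁻¹
    rw [tor3b_conj_of_comm (hSw s)]
    have h1 : he S s * he L s * ye L t * (he S s * he L s)⁻¹ =
        he S s * (he L s * ye L t * (he L s)⁻¹) * (he S s)⁻¹ := by group
    rw [h1, FL.h_y, hyL, zpow_zero, Units.val_one, one_mul]
    congr 3
    have hs : (s : K) ≠ 0 := s.ne_zero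
    field_simp

end Cfsg.Agent.Helper9.Sp4P
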