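import Mathlib
import Cfsg.Agent.Helper9.Sp4P.Defs
import Cfsg.Agent.Helper9.Sp4P.P_TOR1a
import Cfsg.Agent.Helper9.Sp4P.P_TOR3a
import Cfsg.Agent.Helper9.Sp4P.P_TOR3b

/-!
# S2293 piece (TorusActThm) -- see `tools/helper9_s2293/README.md` and board WANTED of helper9.
Assembly of `TorusAct` (helper9).
-/

set_option autoImplicit false

namespace Cfsg.Agent.Helper9.Sp4P

open Matrix Cfsg.Agent.Helper96.StemSLTwo Cfsg.Agent.Helper96.StPres Cfsg.Agent.Helper96.StC

universe u v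

variable {K : Type u} [Field K] {D : Type v} [Group D]

theorem torusAct [Fintype K] {L S : SL2 K →* D} {z : Kˣ} (hz : ∀ s : Kˣ, ∃ n : ℕ, z ^ n = s) (hc : Cross L S z) : TorusAct L S :=
  ⟨torus_comm hz hc, torusAct_S hz hc, torusAct_L hz hc⟩

end Cfsg.Agent.Helper9.Sp4P
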