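import Mathlib
import Cfsg.Agent.Helper9.Sp4P.Defs
import Cfsg.Agent.Helper9.Sp4P.P_SL2F
import Cfsg.Agent.Helper9.Sp4P.P_EXT2
import Cfsg.Agent.Helper9.Sp4P.TorusActThm

/-!
# S2293 piece (B45) -- see `tools/helper9_s2293/README.md` and board WANTED of helper9.
`comm_ext` with `x = RR a`, `x' = RR aab`, base `hc.r11`; `τ s = he L s⁻¹ * he L s⁻¹` (acts on `a` by `s²`, trivially on `aab`), `τ' s = he S s * (he L s * he L s)` (trivially on `a`, by `s²` on `aab`).
-/

set_option autoImplicit false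

namespace Cfsg.Agent.Helper9.Sp4P

open Matrix Cfsg.Agent.Helper96.StemSLTwo Cfsg.Agent.Helper96.StPres Cfsg.Agent.Helper96.StC

universe u v

variable {K : Type u} [Field K] {D : Type v} [Group D]

/-- conjugation by a product -/
theorem B45_conj_mul (g h y : D) : (g * h) * y * (g * h)⁻¹ = g * (h * y * h⁻¹) * g⁻¹ := by group

/-- commuting from a trivial conjugation -/
theorem B45_commute_of_conj {g y : D} (h : g * y * g⁻¹ = y) : Commute g y := by
  show g * y = y * g
  calc g * y = (g * y * g⁻¹) * g := by group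
    _ = y * g := by rw [h]

theorem comm45_base [Fintype K] {L S : SL2 K →* D} {z : Kˣ} (hz : ∀ s : Kˣ, ∃ n : ℕ, z ^ n = s) (hc : Cross L S z) :
    ∀ t u, Commute (RR L S Rt.a t) (RR L S Rt.aab u) := by
  have hT := torusAct hz hc
  have hS := sl2Facts S
  have hL := sl2Facts L
  -- the actions used
  have aL_a : ∀ (s : Kˣ) (t : K), he L s * RR L S Rt.a t * (he L s)⁻¹ = RR L S Rt.a ((s : K)⁻¹ * t) := by
    intro s t
    rw [hT.actL Rt.a s t]
    simp [chL]
  have aL_aab : ∀ (s : Kˣ) (t : K), he L s * RR L S Rt.aab t * (he L s)⁻¹ = RR L S Rt.aab t := by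
    intro s t
    rw [hT.actL Rt.aab s t]
    simp [chL]
  have aS_a : ∀ (s : Kˣ) (t : K), he S s * RR L S Rt.a t * (he S s)⁻¹ = RR L S Rt.a ((s : K) ^ 2 * t) := by
    intro s t
    rw [hT.actS Rt.a s t]
    simp [chS]
  have aS_aab : ∀ (s : Kˣ) (t : K),
      he S s * RR L S Rt.aab t * (he S s)⁻¹ = RR L S Rt.aab ((s : K) ^ 2 * t) := by
    intro s t
    rw [hT.actS Rt.aab s t]
    simp [chS]
  refine comm_ext (RR L S Rt.a) (RR L S Rt.aab) ?_ ?_
    (fun s => he L s⁻¹ * he L s⁻¹) (fun s => he S s * (he L s * he L s)) ?_ ?_ ?_ ?_ ?_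
  · intro t u
    exact hS.x_add t u
  · intro t u
    show we S * xe L (t + u) * (we S)⁻¹ = (we S * xe L t * (we S)⁻¹) * (we S * xe L u * (we S)⁻¹)
    rw [hL.x_add]; group
  · intro s t
    show (he L s⁻¹ * he L s⁻¹) * RR L S Rt.a t * (he L s⁻¹ * he L s⁻¹)⁻¹ = _
    rw [B45_conj_mul, aL_a, aL_a]
    congr 1
    have hs : (s : K) ≠ 0 := s.ne_zero
    simp only [Units.val_inv_eq_inv_val, inv_inv]
    ring
  · intro s u
    apply B45_commute_of_conj
    show (he L s⁻¹ * he L s⁻¹) * RR L S Rt.aab u * (he L s⁻¹ * he L s⁻¹)⁻¹ = _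
    rw [B45_conj_mul, aL_aab, aL_aab]
  · intro s u
    show (he S s * (he L s * he L s)) * RR L S Rt.aab u * (he S s * (he L s * he L s))⁻¹ = _
    rw [B45_conj_mul, B45_conj_mul, aL_aab, aL_aab, aS_aab]
  · intro s t
    apply B45_commute_of_conj
    show (he S s * (he L s * he L s)) * RR L S Rt.a t * (he S s * (he L s * he L s))⁻¹ = _
    rw [B45_conj_mul, B45_conj_mul, aL_a, aL_a, aS_a]
    congr 1
    have hs : (s : K) ≠ 0 := s.ne_zero
    field_simp
  · exact hc.r11

end Cfsg.Agent.Helper9.Sp4P
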