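import Mathlib
import Cfsg.Agent.Helper9.Sp4P.Defs
import Cfsg.Agent.Helper9.Sp4P.P_SL2F
import Cfsg.Agent.Helper9.Sp4P.P_EXT2
import Cfsg.Agent.Helper9.Sp4P.TorusActThm

/-!
# S2293 piece (LL) -- see `tools/helper9_s2293/README.md` and board WANTED of helper9.
Orthogonal long roots commute. (1) `aab`-`b` from `hc.r8` by `comm_ext` with `τ s = he S s * he L s` (acts on `aab` by `s²`, trivially on `b`: exponents `chS + chL`) and `τ' s = he L s` (acts on `b` by `s²`, trivially on `aab`); (2) `aab`-`mb` from `hc.r9` (`τ' s = he L s⁻¹`); (3) `maab`-`mb` from `hc.r10` (`τ s = he S s⁻¹ * he L s⁻¹`, `τ' s = he L s⁻¹`); (4) `maab`-`b`: conjugate (2) by `we S`: `we S * RR aab t * (we S)⁻¹ = RR b t` (`w_sq`, `torusAct.actS b (-1)`) and `we S * RR mb u * (we S)⁻¹ = RR maab u` (definition). Use `(torusAct hz hc).actS/actL` and `zpow` arithmetic of units.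
-/

set_option autoImplicit false

namespace Cfsg.Agent.Helper9.Sp4P

open Matrix Cfsg.Agent.Helper96.StemSLTwo Cfsg.Agent.Helper96.StPres Cfsg.Agent.Helper96.StC

universe u v

variable {K : Type u} [Field K] {D : Type v} [Group D]

theorem ll_comm_of_act {τ X : D} (h : τ * X * τ⁻¹ = X) : Commute τ X :=
  mul_inv_eq_iff_eq_mul.1 h

theorem ll_act_SL {L S : SL2 K →* D} (T : TorusAct L S) (γ : Rt) (s s' : Kˣ) (t : K) :
    (he S s * he L s') * RR L S γ t * (he S s * he L s')⁻¹ =
      RR L S γ (((s ^ chS γ * s' ^ chL γ : Kˣ) : K) * t) := by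
  have h1 : (he S s * he L s') * RR L S γ t * (he S s * he L s')⁻¹ =
      he S s * (he L s' * RR L S γ t * (he L s')⁻¹) * (he S s)⁻¹ := by group
  rw [h1, T.actL, T.actS, Units.val_mul, mul_assoc]

theorem ll_add_aab (L S : SL2 K →* D) (t u : K) :
    RR L S Rt.aab (t + u) = RR L S Rt.aab t * RR L S Rt.aab u := by
  show we S * xe L (t + u) * (we S)⁻¹ = (we S * xe L t * (we S)⁻¹) * (we S * xe L u * (we S)⁻¹)
  rw [(sl2Facts L).x_add]; group

theorem ll_add_maab (L S : SL2 K →* D) (t u : K) :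
    RR L S Rt.maab (t + u) = RR L S Rt.maab t * RR L S Rt.maab u := by
  show we S * ye L (t + u) * (we S)⁻¹ = (we S * ye L t * (we S)⁻¹) * (we S * ye L u * (we S)⁻¹)
  rw [(sl2Facts L).y_add]; group

theorem ll_add_b (L S : SL2 K →* D) (t u : K) :
    RR L S Rt.b (t + u) = RR L S Rt.b t * RR L S Rt.b u :=
  (sl2Facts L).x_add t u

theorem ll_add_mb (L S : SL2 K →* D) (t u : K) :
    RR L S Rt.mb (t + u) = RR L S Rt.mb t * RR L S Rt.mb u :=
  (sl2Facts L).y_add t u

theorem long_long [Fintype K] {L S : SL2 K →* D} {z : Kˣ} (hz : ∀ s : Kˣ, ∃ n : ℕ, z ^ n = s) (hc : Cross L S z) :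
    (∀ t u, Commute (RR L S Rt.aab t) (RR L S Rt.b u)) ∧
    (∀ t u, Commute (RR L S Rt.aab t) (RR L S Rt.mb u)) ∧
    (∀ t u, Commute (RR L S Rt.maab t) (RR L S Rt.mb u)) ∧
    (∀ t u, Commute (RR L S Rt.maab t) (RR L S Rt.b u)) := by
  have T := torusAct hz hc
  have h1 : ∀ t u, Commute (RR L S Rt.aab t) (RR L S Rt.b u) := by
    refine comm_ext (RR L S Rt.aab) (RR L S Rt.b) (ll_add_aab L S) (ll_add_b L S)
      (fun s => he S s * he L s) (fun s => he L s) ?_ ?_ ?_ ?_ hc.r8
    · intro s t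
      rw [ll_act_SL T]
      congr 1
      simp [chS, chL]
    · intro s u
      apply ll_comm_of_act
      rw [ll_act_SL T]
      congr 1
      simp [chS, chL]
    · intro s u
      rw [T.actL]
      congr 1
    · intro s t
      apply ll_comm_of_act
      rw [T.actL]
      congr 1
      simp [chL]
  have h2 : ∀ t u, Commute (RR L S Rt.aab t) (RR L S Rt.mb u) := by
    refine comm_ext (RR L S Rt.aab) (RR L S Rt.mb) (ll_add_aab L S) (ll_add_mb L S)
      (fun s => he S s * he L s) (fun s => he L s⁻¹) ?_ ?_ ?_ ?_ hc.r9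
    · intro s t
      rw [ll_act_SL T]
      congr 1
      simp [chS, chL]
    · intro s u
      apply ll_comm_of_act
      rw [ll_act_SL T]
      congr 1
      simp [chS, chL]
    · intro s u
      rw [T.actL]
      congr 1
    · intro s t
      apply ll_comm_of_act
      rw [T.actL]
      congr 1
      simp [chL]
  have h3 : ∀ t u, Commute (RR L S Rt.maab t) (RR L S Rt.mb u) := by
    refine comm_ext (RR L S Rt.maab) (RR L S Rt.mb) (ll_add_maab L S) (ll_add_mb L S)
      (fun s => he S s⁻¹ * he L s⁻¹) (fun s => he L s⁻¹) ?_ ?_ ?_ ?_ hc.r10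
    · intro s t
      rw [ll_act_SL T]
      congr 1
      simp [chS, chL]
    · intro s u
      apply ll_comm_of_act
      rw [ll_act_SL T]
      congr 1
      simp [chS, chL]
    · intro s u
      rw [T.actL]
      congr 1
    · intro s t
      apply ll_comm_of_act
      rw [T.actL]
      congr 1
      simp [chL]
  refine ⟨h1, h2, h3, ?_⟩
  intro t u
  -- conjugate (2) by `we S`
  have hA : we S * RR L S Rt.aab u * (we S)⁻¹ = RR L S Rt.b u := by
    have e1 : we S * RR L S Rt.aab u * (we S)⁻¹ =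
        (we S * we S) * RR L S Rt.b u * (we S * we S)⁻¹ := by
      show we S * (we S * xe L u * (we S)⁻¹) * (we S)⁻¹ = (we S * we S) * xe L u * (we S * we S)⁻¹
      group
    rw [e1, (sl2Facts S).w_sq, T.actS]
    congr 1
    simp [chS]
  have hB : we S * RR L S Rt.mb t * (we S)⁻¹ = RR L S Rt.maab t := rfl
  have h := h2 u t
  have h' : Commute (we S * RR L S Rt.aab u * (we S)⁻¹) (we S * RR L S Rt.mb t * (we S)⁻¹) := by
    have := h.eq
    show _ * _ = _ * _
    calc we S * RR L S Rt.aab u * (we S)⁻¹ * (we S * RR L S Rt.mb t * (we S)⁻¹)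
        = we S * (RR L S Rt.aab u * RR L S Rt.mb t) * (we S)⁻¹ := by group
      _ = we S * (RR L S Rt.mb t * RR L S Rt.aab u) * (we S)⁻¹ := by rw [this]
      _ = _ := by group
  rw [hA, hB] at h'
  exact h'.symm

end Cfsg.Agent.Helper9.Sp4P
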