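import Mathlib
import Cfsg.Agent.Helper9.Sp4P.Defs
import Cfsg.Agent.Helper9.Sp4P.P_SL2F
import Cfsg.Agent.Helper9.Sp4P.P_EXT1
import Cfsg.Agent.Helper9.Sp4P.P_TOR1b
import Cfsg.Agent.Helper9.Sp4P.TorusActThm

/-!
# S2293 piece (W2) -- see `tools/helper9_s2293/README.md` and board WANTED of helper9.
`conj_ext` with `g = we S`, `x = x' = RR L S Rt.ab`, `c = -1`, `τ s = he L s * he L s` (acts on `ab` by `s²`: `chL ab = 1`), `τ' s = he S s * he S s * (he L s * he L s)` or any expression equal to `we S * τ s * (we S)⁻¹` by `weyl_torus` (acts on `ab` by `s²`: `chS ab = 0`). Base: `hc.r6` reads `we S * RR ab (-1) * (we S)⁻¹ = RR ab 1` (unfold `RR`), invert it. Same for `mab` with `hc.r7`.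
-/

set_option autoImplicit false

namespace Cfsg.Agent.Helper9.Sp4P

open Matrix Cfsg.Agent.Helper96.StemSLTwo Cfsg.Agent.Helper96.StPres Cfsg.Agent.Helper96.StC

universe u v

variable {K : Type u} [Field K] {D : Type v} [Group D]

/-- conjugation by a product -/
theorem W2_conj_mul (g h y : D) : (g * h) * y * (g * h)⁻¹ = g * (h * y * h⁻¹) * g⁻¹ := by group

/-- an additive family: value at `-1` is the inverse of the value at `1` -/
theorem W2_neg_one (x : K → D) (hx : ∀ t u, x (t + u) = x t * x u) : x (-1) = (x 1)⁻¹ := by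
  have h0 : x 0 = 1 := by
    have := hx 0 0
    rw [add_zero] at this
    exact (mul_eq_left.mp this.symm)
  have h1 : x (-1) * x 1 = 1 := by rw [← hx, neg_add_cancel, h0]
  exact eq_inv_of_mul_eq_one_left h1

/-- the generic step: from `g * x (-1) * g⁻¹ = x 1` to `g * x 1 * g⁻¹ = x (-1)` -/
theorem W2_flip (x : K → D) (hx : ∀ t u, x (t + u) = x t * x u) (g : D)
    (h : g * x (-1) * g⁻¹ = x 1) : g * x 1 * g⁻¹ = x (-1) := by
  rw [W2_neg_one x hx] at h ⊢
  have : g * x 1 * g⁻¹ = (g * (x 1)⁻¹ * g⁻¹)⁻¹ := by group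
  rw [this, h]

theorem weS_ab [Fintype K] {L S : SL2 K →* D} {z : Kˣ} (hz : ∀ s : Kˣ, ∃ n : ℕ, z ^ n = s) (hc : Cross L S z) :
    (∀ t, we S * RR L S Rt.ab t * (we S)⁻¹ = RR L S Rt.ab (-t)) ∧
    (∀ t, we S * RR L S Rt.mab t * (we S)⁻¹ = RR L S Rt.mab (-t)) := by
  have hT := torusAct hz hc
  have hS := sl2Facts S
  have hWT := (weyl_torus hz hc).1
  -- additivity
  have add_ab : ∀ t u, RR L S Rt.ab (t + u) = RR L S Rt.ab t * RR L S Rt.ab u := by
    intro t u
    show we L * xe S (-(t + u)) * (we L)⁻¹ =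
      (we L * xe S (-t) * (we L)⁻¹) * (we L * xe S (-u) * (we L)⁻¹)
    rw [neg_add, hS.x_add]; group
  have add_mab : ∀ t u, RR L S Rt.mab (t + u) = RR L S Rt.mab t * RR L S Rt.mab u := by
    intro t u
    show we L * ye S (-(t + u)) * (we L)⁻¹ =
      (we L * ye S (-t) * (we L)⁻¹) * (we L * ye S (-u) * (we L)⁻¹)
    rw [neg_add, hS.y_add]; group
  -- torus actions
  have aL_ab : ∀ (s : Kˣ) (t : K), he L s * RR L S Rt.ab t * (he L s)⁻¹ = RR L S Rt.ab ((s : K) * t) := by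
    intro s t
    rw [hT.actL Rt.ab s t]
    simp [chL]
  have aS_ab : ∀ (s : Kˣ) (t : K), he S s * RR L S Rt.ab t * (he S s)⁻¹ = RR L S Rt.ab t := by
    intro s t
    rw [hT.actS Rt.ab s t]
    simp [chS]
  have aL_mab : ∀ (s : Kˣ) (t : K),
      he L s * RR L S Rt.mab t * (he L s)⁻¹ = RR L S Rt.mab ((s : K)⁻¹ * t) := by
    intro s t
    rw [hT.actL Rt.mab s t]
    simp [chL]
  have aS_mab : ∀ (s : Kˣ) (t : K), he S s * RR L S Rt.mab t * (he S s)⁻¹ = RR L S Rt.mab t := by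
    intro s t
    rw [hT.actS Rt.mab s t]
    simp [chS]
  -- the conjugated torus element
  have hτ' : ∀ s : Kˣ, we S * (he L s * he L s) * (we S)⁻¹ = (he S s * he L s) * (he S s * he L s) := by
    intro s
    rw [← hWT s]; group
  constructor
  · have key := conj_ext (RR L S Rt.ab) (RR L S Rt.ab) add_ab add_ab (we S) (-1)
      (fun s => he L s * he L s) (fun s => we S * (he L s * he L s) * (we S)⁻¹) ?_ ?_ ?_ ?_
    · intro t
      rw [key t, neg_one_mul]
    · intro s t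
      show (he L s * he L s) * RR L S Rt.ab t * (he L s * he L s)⁻¹ = _
      rw [W2_conj_mul, aL_ab, aL_ab]
      congr 1; ring
    · intro s t
      show (we S * (he L s * he L s) * (we S)⁻¹) * RR L S Rt.ab t *
        (we S * (he L s * he L s) * (we S)⁻¹)⁻¹ = _
      rw [hτ' s, W2_conj_mul, W2_conj_mul, W2_conj_mul, aL_ab, aS_ab, aL_ab, aS_ab]
      congr 1; ring
    · intro s; rfl
    · apply W2_flip (RR L S Rt.ab) add_ab
      have := hc.r6
      show we S * (we L * xe S (- -1) * (we L)⁻¹) * (we S)⁻¹ = we L * xe S (-1) * (we L)⁻¹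
      rw [neg_neg]; exact this
  · have key := conj_ext (RR L S Rt.mab) (RR L S Rt.mab) add_mab add_mab (we S) (-1)
      (fun s => he L s⁻¹ * he L s⁻¹) (fun s => we S * (he L s⁻¹ * he L s⁻¹) * (we S)⁻¹) ?_ ?_ ?_ ?_
    · intro t
      rw [key t, neg_one_mul]
    · intro s t
      show (he L s⁻¹ * he L s⁻¹) * RR L S Rt.mab t * (he L s⁻¹ * he L s⁻¹)⁻¹ = _
      rw [W2_conj_mul, aL_mab, aL_mab]
      congr 1
      simp only [Units.val_inv_eq_inv_val, inv_inv]
      ring
    · intro s t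
      show (we S * (he L s⁻¹ * he L s⁻¹) * (we S)⁻¹) * RR L S Rt.mab t *
        (we S * (he L s⁻¹ * he L s⁻¹) * (we S)⁻¹)⁻¹ = _
      rw [hτ' s⁻¹, W2_conj_mul, W2_conj_mul, W2_conj_mul, aL_mab, aS_mab, aL_mab, aS_mab]
      congr 1
      simp only [Units.val_inv_eq_inv_val, inv_inv]
      ring
    · intro s; rfl
    · apply W2_flip (RR L S Rt.mab) add_mab
      have := hc.r7
      show we S * (we L * ye S (- -1) * (we L)⁻¹) * (we S)⁻¹ = we L * ye S (-1) * (we L)⁻¹
      rw [neg_neg]; exact this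

end Cfsg.Agent.Helper9.Sp4P
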