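import Mathlib
import Cfsg.Agent.Helper9.Sp4P.Defs
import Cfsg.Agent.Helper9.Sp4P.P_SL2F
import Cfsg.Agent.Helper9.Sp4P.P_W2
import Cfsg.Agent.Helper9.Sp4P.TorusActThm

/-!
# S2293 piece (W3a) -- see `tools/helper9_s2293/README.md` and board WANTED of helper9.
Eight cases. `a`, `ma`: `w_x`, `w_y` of `S`; `b`, `mb`: definition of `RR aab`, `RR maab`; `aab`, `maab`: `we S * (we S * g * (we S)⁻¹) * (we S)⁻¹ = he S (-1) * g * (he S (-1))⁻¹` (`w_sq`) and `(torusAct hz hc).actS` at `s = -1` (even exponent); `ab`, `mab`: `weS_ab`.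
-/

set_option autoImplicit false

namespace Cfsg.Agent.Helper9.Sp4P

open Matrix Cfsg.Agent.Helper96.StemSLTwo Cfsg.Agent.Helper96.StPres Cfsg.Agent.Helper96.StC

universe u v

variable {K : Type u} [Field K] {D : Type v} [Group D]

theorem weylAct_S [Fintype K] {L S : SL2 K →* D} {z : Kˣ} (hz : ∀ s : Kˣ, ∃ n : ℕ, z ^ n = s) (hc : Cross L S z) :
    ∀ (γ : Rt) (t : K), we S * RR L S γ t * (we S)⁻¹ = RR L S (sS γ) ((cS γ : K) * t) := by
  have fS : SL2Facts S := sl2Facts S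
  have hT : TorusAct L S := torusAct hz hc
  obtain ⟨hab, hmab⟩ := weS_ab hz hc
  have hm1 : ∀ t : K, (((-1 : ℤ) : K)) * t = -t := by
    intro t; rw [Int.cast_neg, Int.cast_one, neg_one_mul]
  have h1 : ∀ t : K, (((1 : ℤ) : K)) * t = t := by
    intro t; rw [Int.cast_one, one_mul]
  -- conjugating twice by `we S` is conjugating by `he S (-1)`
  have hsq : ∀ g : D, we S * (we S * g * (we S)⁻¹) * (we S)⁻¹ = he S (-1) * g * (he S (-1))⁻¹ := by
    intro g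
    rw [← fS.w_sq, _root_.mul_inv_rev]
    group
  have hneg2 : (((-1 : Kˣ) ^ (2 : ℤ) : Kˣ) : K) = 1 := by
    rw [zpow_ofNat]; simp
  have hnegm2 : (((-1 : Kˣ) ^ (-2 : ℤ) : Kˣ) : K) = 1 := by
    rw [_root_.zpow_neg, zpow_ofNat]; simp
  intro γ t
  cases γ with
  | a =>
    show we S * xe S t * (we S)⁻¹ = ye S ((((-1 : ℤ)) : K) * t)
    rw [hm1, fS.w_x]
  | ma =>
    show we S * ye S t * (we S)⁻¹ = xe S ((((-1 : ℤ)) : K) * t)
    rw [hm1, fS.w_y]
  | b =>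
    show we S * xe L t * (we S)⁻¹ = we S * xe L ((((1 : ℤ)) : K) * t) * (we S)⁻¹
    rw [h1]
  | mb =>
    show we S * ye L t * (we S)⁻¹ = we S * ye L ((((1 : ℤ)) : K) * t) * (we S)⁻¹
    rw [h1]
  | ab =>
    show we S * RR L S Rt.ab t * (we S)⁻¹ = RR L S Rt.ab ((((-1 : ℤ)) : K) * t)
    rw [hm1, hab]
  | mab =>
    show we S * RR L S Rt.mab t * (we S)⁻¹ = RR L S Rt.mab ((((-1 : ℤ)) : K) * t)
    rw [hm1, hmab]
  | aab =>
    show we S * (we S * xe L t * (we S)⁻¹) * (we S)⁻¹ = xe L ((((1 : ℤ)) : K) * t)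
    rw [h1, hsq]
    have := hT.actS Rt.b (-1) t
    rw [show chS Rt.b = -2 from rfl, hnegm2, one_mul] at this
    exact this
  | maab =>
    show we S * (we S * ye L t * (we S)⁻¹) * (we S)⁻¹ = ye L ((((1 : ℤ)) : K) * t)
    rw [h1, hsq]
    have := hT.actS Rt.mb (-1) t
    rw [show chS Rt.mb = 2 from rfl, hneg2, one_mul] at this
    exact this

end Cfsg.Agent.Helper9.Sp4P
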