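import Mathlib
import Cfsg.Agent.Helper9.Sp4P.Defs
import Cfsg.Agent.Helper9.Sp4P.P_SL2F
import Cfsg.Agent.Helper9.Sp4P.P_LL

/-!
# S2293 piece (W1) -- see `tools/helper9_s2293/README.md` and board WANTED of helper9.
`we L = xe L 1 * ye L (-1) * xe L 1` (`(sl2Facts L).w_eq`), `RR b = xe L`, `RR mb = ye L` definitionally, and `long_long`.
-/

set_option autoImplicit false

namespace Cfsg.Agent.Helper9.Sp4P

open Matrix Cfsg.Agent.Helper96.StemSLTwo Cfsg.Agent.Helper96.StPres Cfsg.Agent.Helper96.StC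

universe u v

variable {K : Type u} [Field K] {D : Type v} [Group D]

theorem weL_comm [Fintype K] {L S : SL2 K →* D} {z : Kˣ} (hz : ∀ s : Kˣ, ∃ n : ℕ, z ^ n = s) (hc : Cross L S z) :
    (∀ t, Commute (we L) (RR L S Rt.aab t)) ∧ (∀ t, Commute (we L) (RR L S Rt.maab t)) := by
  obtain ⟨h1, h2, h3, h4⟩ := long_long hz hc
  have hw : we L = xe L 1 * ye L (-1) * xe L 1 := (sl2Facts L).w_eq
  constructor
  · intro t
    have hb : ∀ u, Commute (RR L S Rt.aab t) (xe L u) := fun u => h1 t u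
    have hmb : ∀ u, Commute (RR L S Rt.aab t) (ye L u) := fun u => h2 t u
    rw [hw]
    exact (((hb 1).mul_right (hmb (-1))).mul_right (hb 1)).symm
  · intro t
    have hb : ∀ u, Commute (RR L S Rt.maab t) (xe L u) := fun u => h4 t u
    have hmb : ∀ u, Commute (RR L S Rt.maab t) (ye L u) := fun u => h3 t u
    rw [hw]
    exact (((hb 1).mul_right (hmb (-1))).mul_right (hb 1)).symm

end Cfsg.Agent.Helper9.Sp4P
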