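import Mathlib
import Cfsg.Agent.Helper9.Sp4P.Defs
import Cfsg.Agent.Helper9.Sp4P.P_SL2F
import Cfsg.Agent.Helper9.Sp4P.P_W1
import Cfsg.Agent.Helper9.Sp4P.TorusActThm

/-!
# S2293 piece (W3b) -- see `tools/helper9_s2293/README.md` and board WANTED of helper9.
Eight cases. `b`, `mb`: `w_x`, `w_y` of `L`; `a`, `ma`: definition of `RR ab`, `RR mab` (sign!); `ab`, `mab`: `we L * (we L * g * (we L)⁻¹) * (we L)⁻¹ = he L (-1) * g * (he L (-1))⁻¹` (`w_sq`) and `(torusAct hz hc).actL` at `s = -1` (odd exponent `chL a = -1`: sign `-1`); `aab`, `maab`: `weL_comm`.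
-/

set_option autoImplicit false

namespace Cfsg.Agent.Helper9.Sp4P

open Matrix Cfsg.Agent.Helper96.StemSLTwo Cfsg.Agent.Helper96.StPres Cfsg.Agent.Helper96.StC

universe u v

variable {K : Type u} [Field K] {D : Type v} [Group D]

/-- conjugating twice by `we L` is conjugating by `he L (-1)` -/
theorem weL_conj_conj_aux {L : SL2 K →* D} (g : D) :
    we L * (we L * g * (we L)⁻¹) * (we L)⁻¹ = he L (-1) * g * (he L (-1))⁻¹ := by
  rw [← (sl2Facts L).w_sq]
  group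

theorem weylAct_L [Fintype K] {L S : SL2 K →* D} {z : Kˣ} (hz : ∀ s : Kˣ, ∃ n : ℕ, z ^ n = s) (hc : Cross L S z) :
    ∀ (γ : Rt) (t : K), we L * RR L S γ t * (we L)⁻¹ = RR L S (sL γ) ((cL γ : K) * t) := by
  intro γ t
  have hF := sl2Facts L
  have hT := torusAct hz hc
  have hW := weL_comm hz hc
  cases γ with
  | a =>
    show we L * xe S t * (we L)⁻¹ = we L * xe S (-(((-1 : ℤ) : K) * t)) * (we L)⁻¹
    simp
  | ma =>
    show we L * ye S t * (we L)⁻¹ = we L * ye S (-(((-1 : ℤ) : K) * t)) * (we L)⁻¹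
    simp
  | b =>
    show we L * xe L t * (we L)⁻¹ = ye L (((-1 : ℤ) : K) * t)
    rw [hF.w_x]
    simp
  | mb =>
    show we L * ye L t * (we L)⁻¹ = xe L (((-1 : ℤ) : K) * t)
    rw [hF.w_y]
    simp
  | ab =>
    show we L * (we L * xe S (-t) * (we L)⁻¹) * (we L)⁻¹ = xe S (((1 : ℤ) : K) * t)
    rw [weL_conj_conj_aux]
    have h := hT.actL Rt.a (-1) (-t)
    have h' : he L (-1) * xe S (-t) * (he L (-1))⁻¹ =
        xe S ((((-1 : Kˣ) ^ chL Rt.a : Kˣ) : K) * (-t)) := h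
    rw [h']
    congr 1
    simp [chL]
  | mab =>
    show we L * (we L * ye S (-t) * (we L)⁻¹) * (we L)⁻¹ = ye S (((1 : ℤ) : K) * t)
    rw [weL_conj_conj_aux]
    have h := hT.actL Rt.ma (-1) (-t)
    have h' : he L (-1) * ye S (-t) * (he L (-1))⁻¹ =
        ye S ((((-1 : Kˣ) ^ chL Rt.ma : Kˣ) : K) * (-t)) := h
    rw [h']
    congr 1
    simp [chL]
  | aab =>
    show we L * RR L S Rt.aab t * (we L)⁻¹ = RR L S Rt.aab (((1 : ℤ) : K) * t)
    have h := (hW.1 t).eq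
    rw [h, mul_inv_cancel_right]
    simp
  | maab =>
    show we L * RR L S Rt.maab t * (we L)⁻¹ = RR L S Rt.maab (((1 : ℤ) : K) * t)
    have h := (hW.2 t).eq
    rw [h, mul_inv_cancel_right]
    simp

end Cfsg.Agent.Helper9.Sp4P
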