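import Mathlib
import Cfsg.Agent.Helper9.Sp4P.Defs
import Cfsg.Agent.Helper9.Sp4P.P_SL2F
import Cfsg.Agent.Helper9.Sp4P.P_LL
import Cfsg.Agent.Helper9.Sp4P.P_B45
import Cfsg.Agent.Helper9.Sp4P.WeylActThm

/-!
# S2293 piece (COMM) -- see `tools/helper9_s2293/README.md` and board WANTED of helper9.
The commutation table: 64 cases, 32 true. Equal roots: additivity (`sl2Facts`, `map` of products; for the conjugated ones conjugate). Long-long: `long_long` and symmetry. 45° pairs: transport `comm45_base` by `weylAct`: `(a,aab) -sS-> (ma,b) -sL-> (mab,mb) -sS-> (mab,maab) -sL-> (ma,maab)`, `(a,aab) -sL-> (ab,aab) -sS-> (ab,b) -sL-> (a,mb)`; conjugating `Commute (R γ t) (R δ u)` for all `t u` by `w` gives `Commute (R (s γ) t) (R (s δ) u)` for all `t u` (the signs `±1` are absorbed by the quantifiers).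
(Proof: helper70.)
-/

set_option autoImplicit false

namespace Cfsg.Agent.Helper9.Sp4P

open Matrix Cfsg.Agent.Helper96.StemSLTwo Cfsg.Agent.Helper96.StPres Cfsg.Agent.Helper96.StC

universe u v

variable {K : Type u} [Field K] {D : Type v} [Group D]

/-- the signs of `we S` square to one -/
theorem COMM_cS_sq (γ : Rt) (t : K) : (cS γ : K) * ((cS γ : K) * t) = t := by
  cases γ <;> simp [cS]

/-- the signs of `we L` square to one -/
theorem COMM_cL_sq (γ : Rt) (t : K) : (cL γ : K) * ((cL γ : K) * t) = t := by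
  cases γ <;> simp [cL]

/-- transport of a commutation by `we S` -/
theorem COMM_transS {L S : SL2 K →* D} (W : WeylAct L S) (γ δ : Rt)
    (h : ∀ t u, Commute (RR L S γ t) (RR L S δ u)) :
    ∀ t u, Commute (RR L S (sS γ) t) (RR L S (sS δ) u) := by
  intro t u
  have h1 := W.actS γ ((cS γ : K) * t)
  have h2 := W.actS δ ((cS δ : K) * u)
  rw [COMM_cS_sq] at h1 h2
  rw [← h1, ← h2]
  exact (Commute.conj_iff _).mpr (h _ _)

/-- transport of a commutation by `we L` -/
theorem COMM_transL {L S : SL2 K →* D} (W : WeylAct L S) (γ δ : Rt)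
    (h : ∀ t u, Commute (RR L S γ t) (RR L S δ u)) :
    ∀ t u, Commute (RR L S (sL γ) t) (RR L S (sL δ) u) := by
  intro t u
  have h1 := W.actL γ ((cL γ : K) * t)
  have h2 := W.actL δ ((cL δ : K) * u)
  rw [COMM_cL_sq] at h1 h2
  rw [← h1, ← h2]
  exact (Commute.conj_iff _).mpr (h _ _)

/-- each root subgroup is commutative -/
theorem COMM_self (L S : SL2 K →* D) (γ : Rt) (t u : K) :
    Commute (RR L S γ t) (RR L S γ u) := by
  have hx : ∀ (a : SL2 K →* D) (t u : K), Commute (xe a t) (xe a u) := by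
    intro a t u
    show xe a t * xe a u = xe a u * xe a t
    rw [← (sl2Facts a).x_add, ← (sl2Facts a).x_add, add_comm]
  have hy : ∀ (a : SL2 K →* D) (t u : K), Commute (ye a t) (ye a u) := by
    intro a t u
    show ye a t * ye a u = ye a u * ye a t
    rw [← (sl2Facts a).y_add, ← (sl2Facts a).y_add, add_comm]
  cases γ
  · exact hx S t u
  · exact hy S t u
  · exact hx L t u
  · exact hy L t u
  · exact (Commute.conj_iff _).mpr (hx S _ _)
  · exact (Commute.conj_iff _).mpr (hy S _ _)
  · exact (Commute.conj_iff _).mpr (hx L _ _)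
  · exact (Commute.conj_iff _).mpr (hy L _ _)

theorem comm_all [Fintype K] {L S : SL2 K →* D} {z : Kˣ} (hz : ∀ s : Kˣ, ∃ n : ℕ, z ^ n = s) (hc : Cross L S z) :
    ∀ γ δ, commT γ δ = true → ∀ t u, Commute (RR L S γ t) (RR L S δ u) := by
  have W := weylAct hz hc
  obtain ⟨l1, l2, l3, l4⟩ := long_long hz hc
  -- the 45° pairs
  have h1 : ∀ t u, Commute (RR L S Rt.a t) (RR L S Rt.aab u) := comm45_base hz hc
  have h2 : ∀ t u, Commute (RR L S Rt.ma t) (RR L S Rt.b u) := COMM_transS W Rt.a Rt.aab h1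
  have h3 : ∀ t u, Commute (RR L S Rt.mab t) (RR L S Rt.mb u) := COMM_transL W Rt.ma Rt.b h2
  have h4 : ∀ t u, Commute (RR L S Rt.mab t) (RR L S Rt.maab u) := COMM_transS W Rt.mab Rt.mb h3
  have h5 : ∀ t u, Commute (RR L S Rt.ma t) (RR L S Rt.maab u) := COMM_transL W Rt.mab Rt.maab h4
  have h6 : ∀ t u, Commute (RR L S Rt.ab t) (RR L S Rt.aab u) := COMM_transL W Rt.a Rt.aab h1
  have h7 : ∀ t u, Commute (RR L S Rt.ab t) (RR L S Rt.b u) := COMM_transS W Rt.ab Rt.aab h6
  have h8 : ∀ t u, Commute (RR L S Rt.a t) (RR L S Rt.mb u) := COMM_transL W Rt.ab Rt.b h7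
  intro γ δ hγδ t u
  cases γ <;> cases δ <;>
    first
    | exact absurd hγδ (by decide)
    | exact COMM_self L S _ t u
    | exact l1 t u | exact (l1 u t).symm
    | exact l2 t u | exact (l2 u t).symm
    | exact l3 t u | exact (l3 u t).symm
    | exact l4 t u | exact (l4 u t).symm
    | exact h1 t u | exact (h1 u t).symm
    | exact h2 t u | exact (h2 u t).symm
    | exact h3 t u | exact (h3 u t).symm
    | exact h4 t u | exact (h4 u t).symm
    | exact h5 t u | exact (h5 u t).symm
    | exact h6 t u | exact (h6 u t).symm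
    | exact h7 t u | exact (h7 u t).symm
    | exact h8 t u | exact (h8 u t).symm

end Cfsg.Agent.Helper9.Sp4P
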