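import Mathlib
import Cfsg.Agent.Helper9.Sp4P.Defs
import Cfsg.Agent.Helper9.Sp4P.P_SQ

/-!
# S2293 piece (EXT3) -- see `tools/helper9_s2293/README.md` and board WANTED of helper9.
Bilinear extension of a commutator formula with central values. `⁅g, h h'⁆ = ⁅g,h⁆ · h ⁅g,h'⁆ h⁻¹`, `⁅g g', h⁆ = g ⁅g',h⁆ g⁻¹ · ⁅g,h⁆`. Step 1: `{u | ⁅x 1, x' u⁆ = x''(c u)} = ⊤` (torus `τ`); step 2: for each `u`, `{t | ⁅x t, x' u⁆ = x''(c t u)} = ⊤` (torus `τ'`).
-/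

set_option autoImplicit false

namespace Cfsg.Agent.Helper9.Sp4P

open Matrix Cfsg.Agent.Helper96.StemSLTwo Cfsg.Agent.Helper96.StPres Cfsg.Agent.Helper96.StC

universe u v

variable {K : Type u} [Field K] {D : Type v} [Group D]

/-- an additive map to a group sends `0` to `1` -/
theorem ext3_map_zero (y : K → D) (hy : ∀ t u, y (t + u) = y t * y u) : y 0 = 1 := by
  have h := hy 0 0
  rw [add_zero] at h
  exact (mul_eq_left.mp h.symm)

/-- an additive map to a group sends `-t` to the inverse -/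
theorem ext3_map_neg (y : K → D) (hy : ∀ t u, y (t + u) = y t * y u) (t : K) :
    y (-t) = (y t)⁻¹ := by
  have h := hy t (-t)
  rw [add_neg_cancel, ext3_map_zero y hy] at h
  exact eq_inv_of_mul_eq_one_right h.symm

/-- one-variable extension: `⁅g, y t⁆ = x''(c t)` for all `t`, from `t = 1`, additivity and a torus
acting by squares -/
theorem ext3_one_var [Fintype K] (y x'' : K → D) (hy : ∀ t u, y (t + u) = y t * y u)
    (hx'' : ∀ t u, x'' (t + u) = x'' t * x'' u) (hc : ∀ t v, Commute (y t) (x'' v))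
    (g : D) (T : Kˣ → D) (hT0 : ∀ s : Kˣ, Commute (T s) g)
    (hT1 : ∀ (s : Kˣ) (t : K), T s * y t * (T s)⁻¹ = y ((s : K) ^ 2 * t))
    (hT2 : ∀ (s : Kˣ) (v : K), T s * x'' v * (T s)⁻¹ = x'' ((s : K) ^ 2 * v))
    (c : K) (h1 : g * y 1 * g⁻¹ * (y 1)⁻¹ = x'' c) :
    ∀ t, g * y t * g⁻¹ * (y t)⁻¹ = x'' (c * t) := by
  let A : AddSubgroup K :=
    { carrier := {t | g * y t * g⁻¹ * (y t)⁻¹ = x'' (c * t)}
      zero_mem' := by
        change g * y 0 * g⁻¹ * (y 0)⁻¹ = x'' (c * 0)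
        rw [mul_zero, ext3_map_zero y hy, ext3_map_zero x'' hx'']
        group
      add_mem' := by
        intro t t' ht ht'
        change g * y t * g⁻¹ * (y t)⁻¹ = x'' (c * t) at ht
        change g * y t' * g⁻¹ * (y t')⁻¹ = x'' (c * t') at ht'
        change g * y (t + t') * g⁻¹ * (y (t + t'))⁻¹ = x'' (c * (t + t'))
        have key : g * (y t * y t') * g⁻¹ * (y t * y t')⁻¹ =
            (g * y t * g⁻¹ * (y t)⁻¹) * (y t * (g * y t' * g⁻¹ * (y t')⁻¹) * (y t)⁻¹) := by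
          group
        rw [hy, key, ht, ht', mul_add, hx'']
        have h2 : y t * x'' (c * t') * (y t)⁻¹ = x'' (c * t') := by
          rw [(hc t (c * t')).eq, mul_inv_cancel_right]
        rw [h2]
      neg_mem' := by
        intro t ht
        change g * y t * g⁻¹ * (y t)⁻¹ = x'' (c * t) at ht
        change g * y (-t) * g⁻¹ * (y (-t))⁻¹ = x'' (c * -t)
        have key : g * (y t)⁻¹ * g⁻¹ * ((y t)⁻¹)⁻¹ =
            (y t)⁻¹ * (g * y t * g⁻¹ * (y t)⁻¹)⁻¹ * y t := by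
          group
        rw [ext3_map_neg y hy, key, ht, mul_neg, ext3_map_neg x'' hx'']
        have h2 : (y t)⁻¹ * (x'' (c * t))⁻¹ * y t = (x'' (c * t))⁻¹ := by
          have h3 : Commute (y t) (x'' (c * t))⁻¹ := (hc t (c * t)).inv_right
          rw [mul_assoc, ← h3.eq, inv_mul_cancel_left]
        rw [h2] }
  have hA1 : (1 : K) ∈ A := by
    change g * y 1 * g⁻¹ * (y 1)⁻¹ = x'' (c * 1)
    rw [mul_one]
    exact h1
  have hAsq : ∀ (s : Kˣ) (t : K), t ∈ A → (s : K) ^ 2 * t ∈ A := by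
    intro s t ht
    change g * y t * g⁻¹ * (y t)⁻¹ = x'' (c * t) at ht
    change g * y ((s : K) ^ 2 * t) * g⁻¹ * (y ((s : K) ^ 2 * t))⁻¹ = x'' (c * ((s : K) ^ 2 * t))
    have key : T s * (g * y t * g⁻¹ * (y t)⁻¹) * (T s)⁻¹ =
        (T s * g * (T s)⁻¹) * (T s * y t * (T s)⁻¹) * (T s * g * (T s)⁻¹)⁻¹ *
          (T s * y t * (T s)⁻¹)⁻¹ := by
      group
    have hg : T s * g * (T s)⁻¹ = g := by
      rw [(hT0 s).eq, mul_inv_cancel_right]
    rw [hg, hT1, ht, hT2] at key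
    rw [← key]
    congr 1
    ring
  have htop := addSubgroup_eq_top_of_sq A hA1 hAsq
  intro t
  have : t ∈ A := by rw [htop]; trivial
  exact this

theorem r5_ext [Fintype K] (x x' x'' : K → D) (hx : ∀ t u, x (t + u) = x t * x u)
    (hx' : ∀ t u, x' (t + u) = x' t * x' u) (hx'' : ∀ t u, x'' (t + u) = x'' t * x'' u)
    (hc1 : ∀ t v, Commute (x t) (x'' v)) (hc2 : ∀ u v, Commute (x' u) (x'' v))
    (τ τ' : Kˣ → D)
    (hτ0 : ∀ (s : Kˣ) (t : K), Commute (τ s) (x t))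
    (hτ1 : ∀ (s : Kˣ) (u : K), τ s * x' u * (τ s)⁻¹ = x' ((s : K) ^ 2 * u))
    (hτ2 : ∀ (s : Kˣ) (v : K), τ s * x'' v * (τ s)⁻¹ = x'' ((s : K) ^ 2 * v))
    (hτ'0 : ∀ (s : Kˣ) (u : K), Commute (τ' s) (x' u))
    (hτ'1 : ∀ (s : Kˣ) (t : K), τ' s * x t * (τ' s)⁻¹ = x ((s : K) ^ 2 * t))
    (hτ'2 : ∀ (s : Kˣ) (v : K), τ' s * x'' v * (τ' s)⁻¹ = x'' ((s : K) ^ 2 * v))
    (c : K) (h1 : x 1 * x' 1 * (x 1)⁻¹ * (x' 1)⁻¹ = x'' c) :
    ∀ t u, x t * x' u * (x t)⁻¹ * (x' u)⁻¹ = x'' (c * t * u) := by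
  -- step 1: `t = 1`
  have step1 : ∀ u, x 1 * x' u * (x 1)⁻¹ * (x' u)⁻¹ = x'' (c * u) :=
    ext3_one_var x' x'' hx' hx'' hc2 (x 1) τ (fun s => hτ0 s 1) hτ1 hτ2 c h1
  intro t u
  -- step 2: the mirrored commutator, for fixed `u`
  have h1' : x' u * x 1 * (x' u)⁻¹ * (x 1)⁻¹ = x'' (-(c * u)) := by
    have key : x' u * x 1 * (x' u)⁻¹ * (x 1)⁻¹ = (x 1 * x' u * (x 1)⁻¹ * (x' u)⁻¹)⁻¹ := by
      group
    rw [key, step1 u, ext3_map_neg x'' hx'']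
  have step2 := ext3_one_var x x'' hx hx'' hc1 (x' u) τ' (fun s => hτ'0 s u) hτ'1 hτ'2
    (-(c * u)) h1' t
  have key : x t * x' u * (x t)⁻¹ * (x' u)⁻¹ = (x' u * x t * (x' u)⁻¹ * (x t)⁻¹)⁻¹ := by
    group
  rw [key, step2, ← ext3_map_neg x'' hx'']
  congr 1
  ring

end Cfsg.Agent.Helper9.Sp4P
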