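import Mathlib
import Cfsg.Agent.Helper9.Sp4P.Defs
import Cfsg.Agent.Helper9.Sp4P.P_SL2F
import Cfsg.Agent.Helper9.Sp4P.P_EXT3
import Cfsg.Agent.Helper9.Sp4P.P_COMM
import Cfsg.Agent.Helper9.Sp4P.TorusActThm

/-!
# S2293 piece (B5) -- see `tools/helper9_s2293/README.md` and board WANTED of helper9.
`r5_ext` with `x = RR a`, `x' = RR ab`, `x'' = RR aab`, `c = 2`; base `hc.r12` (unfold `RR`); commutations from `comm_all` (`(a,aab)`, `(ab,aab)`); `τ s = he S s * (he L s * he L s)` (fixes `a`, scales `ab`, `aab` by `s²`), `τ' s = he S s` (fixes `ab`, scales `a`, `aab` by `s²`).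
-/

set_option autoImplicit false

namespace Cfsg.Agent.Helper9.Sp4P

open Matrix Cfsg.Agent.Helper96.StemSLTwo Cfsg.Agent.Helper96.StPres Cfsg.Agent.Helper96.StC

universe u v

variable {K : Type u} [Field K] {D : Type v} [Group D]

theorem b5_comm_of_act {τ X : D} (h : τ * X * τ⁻¹ = X) : Commute τ X :=
  mul_inv_eq_iff_eq_mul.1 h

theorem b5_act_SL {L S : SL2 K →* D} (T : TorusAct L S) (γ : Rt) (s s' : Kˣ) (t : K) :
    (he S s * he L s') * RR L S γ t * (he S s * he L s')⁻¹ =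
      RR L S γ (((s ^ chS γ * s' ^ chL γ : Kˣ) : K) * t) := by
  have h1 : (he S s * he L s') * RR L S γ t * (he S s * he L s')⁻¹ =
      he S s * (he L s' * RR L S γ t * (he L s')⁻¹) * (he S s)⁻¹ := by group
  rw [h1, T.actL, T.actS, Units.val_mul, mul_assoc]

theorem b5_add_aab (L S : SL2 K →* D) (t u : K) :
    RR L S Rt.aab (t + u) = RR L S Rt.aab t * RR L S Rt.aab u := by
  show we S * xe L (t + u) * (we S)⁻¹ = (we S * xe L t * (we S)⁻¹) * (we S * xe L u * (we S)⁻¹)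
  rw [(sl2Facts L).x_add]; group

theorem b5_add_ab (L S : SL2 K →* D) (t u : K) :
    RR L S Rt.ab (t + u) = RR L S Rt.ab t * RR L S Rt.ab u := by
  show we L * xe S (-(t + u)) * (we L)⁻¹ =
    (we L * xe S (-t) * (we L)⁻¹) * (we L * xe S (-u) * (we L)⁻¹)
  rw [neg_add, (sl2Facts S).x_add]; group

theorem b5_add_a (L S : SL2 K →* D) (t u : K) :
    RR L S Rt.a (t + u) = RR L S Rt.a t * RR L S Rt.a u :=
  (sl2Facts S).x_add t u

theorem r5_base [Fintype K] {L S : SL2 K →* D} {z : Kˣ} (hz : ∀ s : Kˣ, ∃ n : ℕ, z ^ n = s) (hc : Cross L S z) :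
    ∀ t u, RR L S Rt.a t * RR L S Rt.ab u * (RR L S Rt.a t)⁻¹ * (RR L S Rt.ab u)⁻¹ =
      RR L S Rt.aab (2 * t * u) := by
  have T := torusAct hz hc
  have hτeq : ∀ s : Kˣ, he S s * (he L s * he L s) = he S s * he L (s * s) := by
    intro s; rw [(sl2Facts L).h_mul]
  refine r5_ext (RR L S Rt.a) (RR L S Rt.ab) (RR L S Rt.aab) (b5_add_a L S) (b5_add_ab L S)
    (b5_add_aab L S) (comm_all hz hc Rt.a Rt.aab rfl) (comm_all hz hc Rt.ab Rt.aab rfl)
    (fun s => he S s * (he L s * he L s)) (fun s => he S s) ?_ ?_ ?_ ?_ ?_ ?_ 2 hc.r12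
  · intro s t
    apply b5_comm_of_act
    show (he S s * (he L s * he L s)) * RR L S Rt.a t * (he S s * (he L s * he L s))⁻¹ = _
    rw [hτeq, b5_act_SL T]
    have e : (s ^ chS Rt.a * (s * s) ^ chL Rt.a : Kˣ) = 1 := by
      show s ^ (2 : ℤ) * (s * s) ^ (-1 : ℤ) = 1
      rw [zpow_two, _root_.zpow_neg_one, mul_inv_cancel]
    rw [e, Units.val_one, one_mul]
  · intro s u
    show (he S s * (he L s * he L s)) * RR L S Rt.ab u * (he S s * (he L s * he L s))⁻¹ = _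
    rw [hτeq, b5_act_SL T]
    have e : (s ^ chS Rt.ab * (s * s) ^ chL Rt.ab : Kˣ) = s ^ 2 := by
      show s ^ (0 : ℤ) * (s * s) ^ (1 : ℤ) = s ^ 2
      rw [zpow_zero, one_mul, zpow_one, pow_two]
    rw [e, Units.val_pow_eq_pow_val]
  · intro s v
    show (he S s * (he L s * he L s)) * RR L S Rt.aab v * (he S s * (he L s * he L s))⁻¹ = _
    rw [hτeq, b5_act_SL T]
    have e : (s ^ chS Rt.aab * (s * s) ^ chL Rt.aab : Kˣ) = s ^ 2 := by
      show s ^ (2 : ℤ) * (s * s) ^ (0 : ℤ) = s ^ 2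
      rw [zpow_zero, mul_one, zpow_two, pow_two]
    rw [e, Units.val_pow_eq_pow_val]
  · intro s u
    apply b5_comm_of_act
    rw [T.actS]
    have e : (s ^ chS Rt.ab : Kˣ) = 1 := by
      show s ^ (0 : ℤ) = 1
      rw [zpow_zero]
    rw [e, Units.val_one, one_mul]
  · intro s t
    rw [T.actS]
    have e : (s ^ chS Rt.a : Kˣ) = s ^ 2 := by
      show s ^ (2 : ℤ) = s ^ 2
      rw [zpow_two, pow_two]
    rw [e, Units.val_pow_eq_pow_val]
  · intro s v
    rw [T.actS]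
    have e : (s ^ chS Rt.aab : Kˣ) = s ^ 2 := by
      show s ^ (2 : ℤ) = s ^ 2
      rw [zpow_two, pow_two]
    rw [e, Units.val_pow_eq_pow_val]

end Cfsg.Agent.Helper9.Sp4P
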