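import Mathlib
import Cfsg.Agent.Helper9.Sp4P.Defs
import Cfsg.Agent.Helper9.Sp4P.Defs2
import Cfsg.Agent.Helper9.Sp4P.P_B5
import Cfsg.Agent.Helper9.Sp4P.WeylActThm

/-!
# S2293 piece (R5) -- see `tools/helper9_s2293/README.md` and board WANTED of helper9.
Eight true cases of `r5T` (the other 56 are `none`). Transport `r5_base` (= case `(a, ab)`) by `weylAct`: conjugating `⁅R γ t, R δ u⁆ = R ρ (ε 2tu)` for all `t u` by `w` gives `⁅R (s γ) t, R (s δ) u⁆ = R (s ρ) (ε' 2tu)` with `ε' = ε c(ρ) c(γ) c(δ)` (`c = cS` or `cL`, all `±1`). `(ab, a)` etc.: invert (`⁅y,x⁆ = ⁅x,y⁆⁻¹`, `(R ρ v)⁻¹ = R ρ (-v)`). Chain: `(a,ab) -sS-> (ma,ab) -sL-> (mab,a)`, `(a,ab) -sL-> (ab,a)`, `(mab,a) -sS-> (mab,ma)`, and the inverses.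
-/

set_option autoImplicit false

namespace Cfsg.Agent.Helper9.Sp4P

open Matrix Cfsg.Agent.Helper96.StemSLTwo Cfsg.Agent.Helper96.StPres Cfsg.Agent.Helper96.StC

universe u v

variable {K : Type u} [Field K] {D : Type v} [Group D]

/-- additivity of the eight root subgroups (local copy for this piece) -/
theorem r5aux_RR_add (L S : SL2 K →* D) (γ : Rt) (t u : K) :
    RR L S γ (t + u) = RR L S γ t * RR L S γ u := by
  have hL := sl2Facts L
  have hS := sl2Facts S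
  cases γ
  · exact hS.x_add t u
  · exact hS.y_add t u
  · exact hL.x_add t u
  · exact hL.y_add t u
  · change we L * xe S (-(t + u)) * (we L)⁻¹ =
      we L * xe S (-t) * (we L)⁻¹ * (we L * xe S (-u) * (we L)⁻¹)
    rw [neg_add, hS.x_add]
    group
  · change we L * ye S (-(t + u)) * (we L)⁻¹ =
      we L * ye S (-t) * (we L)⁻¹ * (we L * ye S (-u) * (we L)⁻¹)
    rw [neg_add, hS.y_add]
    group
  · change we S * xe L (t + u) * (we S)⁻¹ =
      we S * xe L t * (we S)⁻¹ * (we S * xe L u * (we S)⁻¹)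
    rw [hL.x_add]
    group
  · change we S * ye L (t + u) * (we S)⁻¹ =
      we S * ye L t * (we S)⁻¹ * (we S * ye L u * (we S)⁻¹)
    rw [hL.y_add]
    group

theorem r5aux_RR_zero (L S : SL2 K →* D) (γ : Rt) : RR L S γ 0 = 1 := by
  have h := r5aux_RR_add L S γ 0 0
  rw [add_zero] at h
  exact (mul_eq_left (a := RR L S γ 0)).mp h.symm

theorem r5aux_RR_neg (L S : SL2 K →* D) (γ : Rt) (t : K) :
    RR L S γ (-t) = (RR L S γ t)⁻¹ := by
  have h := r5aux_RR_add L S γ t (-t)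
  rw [add_neg_cancel, r5aux_RR_zero] at h
  exact eq_inv_of_mul_eq_one_right h.symm

/-- transport of an `r5`-type relation by an element acting on the root subgroups -/
theorem r5aux_transport (R : Rt → K → D) (w : D) (s : Rt → Rt) (c : Rt → ℤ)
    (hc2 : ∀ γ, (c γ : K) * (c γ : K) = 1)
    (hw : ∀ γ t, w * R γ t * w⁻¹ = R (s γ) ((c γ : K) * t)) (γ δ ρ : Rt) (e : K)
    (h : ∀ t u, R γ t * R δ u * (R γ t)⁻¹ * (R δ u)⁻¹ = R ρ (e * (2 * t * u))) :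
    ∀ t u, R (s γ) t * R (s δ) u * (R (s γ) t)⁻¹ * (R (s δ) u)⁻¹ =
      R (s ρ) (((c ρ : K) * (c γ : K) * (c δ : K) * e) * (2 * t * u)) := by
  intro t u
  have h1 : R (s γ) t = w * R γ ((c γ : K) * t) * w⁻¹ := by
    rw [hw, ← mul_assoc, hc2, one_mul]
  have h2 : R (s δ) u = w * R δ ((c δ : K) * u) * w⁻¹ := by
    rw [hw, ← mul_assoc, hc2, one_mul]
  have h3 : w * R γ ((c γ : K) * t) * w⁻¹ * (w * R δ ((c δ : K) * u) * w⁻¹) *
      (w * R γ ((c γ : K) * t) * w⁻¹)⁻¹ * (w * R δ ((c δ : K) * u) * w⁻¹)⁻¹ =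
      w * (R γ ((c γ : K) * t) * R δ ((c δ : K) * u) * (R γ ((c γ : K) * t))⁻¹ *
        (R δ ((c δ : K) * u))⁻¹) * w⁻¹ := by
    group
  rw [h1, h2, h3, h, hw]
  congr 1
  ring

/-- inverting an `r5`-type relation -/
theorem r5aux_swap (L S : SL2 K →* D) (γ δ ρ : Rt) (e : K)
    (h : ∀ t u, RR L S γ t * RR L S δ u * (RR L S γ t)⁻¹ * (RR L S δ u)⁻¹ =
      RR L S ρ (e * (2 * t * u))) :
    ∀ t u, RR L S δ t * RR L S γ u * (RR L S δ t)⁻¹ * (RR L S γ u)⁻¹ =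
      RR L S ρ ((-e) * (2 * t * u)) := by
  intro t u
  have h1 : RR L S δ t * RR L S γ u * (RR L S δ t)⁻¹ * (RR L S γ u)⁻¹ =
      (RR L S γ u * RR L S δ t * (RR L S γ u)⁻¹ * (RR L S δ t)⁻¹)⁻¹ := by
    group
  rw [h1, h, ← r5aux_RR_neg]
  congr 1
  ring

theorem r5aux_cS_sq (γ : Rt) : ((cS γ : ℤ) : K) * ((cS γ : ℤ) : K) = 1 := by
  cases γ <;> simp [cS]

theorem r5aux_cL_sq (γ : Rt) : ((cL γ : ℤ) : K) * ((cL γ : ℤ) : K) = 1 := by
  cases γ <;> simp [cL]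

theorem r5_all [Fintype K] {L S : SL2 K →* D} {z : Kˣ} (hz : ∀ s : Kˣ, ∃ n : ℕ, z ^ n = s) (hc : Cross L S z) :
    ∀ γ δ ρ ε, r5T γ δ = some (ρ, ε) → ∀ t u,
      RR L S γ t * RR L S δ u * (RR L S γ t)⁻¹ * (RR L S δ u)⁻¹ =
        RR L S ρ ((ε : K) * (2 * t * u)) := by
  have hW := weylAct hz hc
  -- the base case `(a, ab) ↦ (aab, 1)`
  have b0 : ∀ t u, RR L S Rt.a t * RR L S Rt.ab u * (RR L S Rt.a t)⁻¹ * (RR L S Rt.ab u)⁻¹ =
      RR L S Rt.aab ((1 : K) * (2 * t * u)) := by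
    intro t u
    rw [one_mul]
    exact r5_base hz hc t u
  -- `(ma, ab) ↦ (b, 1)` by `sS`
  have b1 : ∀ t u, RR L S Rt.ma t * RR L S Rt.ab u * (RR L S Rt.ma t)⁻¹ * (RR L S Rt.ab u)⁻¹ =
      RR L S Rt.b ((1 : K) * (2 * t * u)) := by
    intro t u
    have h := r5aux_transport (RR L S) (we S) sS cS r5aux_cS_sq hW.actS Rt.a Rt.ab Rt.aab 1 b0 t u
    have e1 : ((cS Rt.aab : ℤ) : K) * ((cS Rt.a : ℤ) : K) * ((cS Rt.ab : ℤ) : K) * 1 = 1 := by
      simp [cS]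
    rw [e1] at h
    exact h
  -- `(mab, a) ↦ (mb, 1)` by `sL`
  have b2 : ∀ t u, RR L S Rt.mab t * RR L S Rt.a u * (RR L S Rt.mab t)⁻¹ * (RR L S Rt.a u)⁻¹ =
      RR L S Rt.mb ((1 : K) * (2 * t * u)) := by
    intro t u
    have h := r5aux_transport (RR L S) (we L) sL cL r5aux_cL_sq hW.actL Rt.ma Rt.ab Rt.b 1 b1 t u
    have e1 : ((cL Rt.b : ℤ) : K) * ((cL Rt.ma : ℤ) : K) * ((cL Rt.ab : ℤ) : K) * 1 = 1 := by
      simp [cL]
    rw [e1] at h
    exact h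
  -- `(mab, ma) ↦ (maab, 1)` by `sS`
  have b3 : ∀ t u, RR L S Rt.mab t * RR L S Rt.ma u * (RR L S Rt.mab t)⁻¹ * (RR L S Rt.ma u)⁻¹ =
      RR L S Rt.maab ((1 : K) * (2 * t * u)) := by
    intro t u
    have h := r5aux_transport (RR L S) (we S) sS cS r5aux_cS_sq hW.actS Rt.mab Rt.a Rt.mb 1 b2 t u
    have e1 : ((cS Rt.mb : ℤ) : K) * ((cS Rt.mab : ℤ) : K) * ((cS Rt.a : ℤ) : K) * 1 = 1 := by
      simp [cS]
    rw [e1] at h
    exact h
  intro γ δ ρ ε h t u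
  cases γ <;> cases δ <;> simp only [r5T, reduceCtorEq, Option.some.injEq, Prod.mk.injEq] at h
  all_goals obtain ⟨rfl, rfl⟩ := h
  · -- (a, ab)
    have := b0 t u
    simpa using this
  · -- (a, mab)
    have := r5aux_swap L S Rt.mab Rt.a Rt.mb 1 b2 t u
    simpa using this
  · -- (ma, ab)
    have := b1 t u
    simpa using this
  · -- (ma, mab)
    have := r5aux_swap L S Rt.mab Rt.ma Rt.maab 1 b3 t u
    simpa using this
  · -- (ab, a)
    have := r5aux_swap L S Rt.a Rt.ab Rt.aab 1 b0 t u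
    simpa using this
  · -- (ab, ma)
    have := r5aux_swap L S Rt.ma Rt.ab Rt.b 1 b1 t u
    simpa using this
  · -- (mab, a)
    have := b2 t u
    simpa using this
  · -- (mab, ma)
    have := b3 t u
    simpa using this

end Cfsg.Agent.Helper9.Sp4P
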