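import Mathlib
import Cfsg.Agent.Helper9.Sp4P.Defs
import Cfsg.Agent.Helper9.Sp4P.P_SQ

/-!
# S2293 piece (EXT4) -- see `tools/helper9_s2293/README.md` and board WANTED of helper9.
Extension of the `r6` formula. Step 1 (`u = 1`): `{t | ⁅x t, y 1⁆ = p(c1 t) r(c2 t)}` is an additive subgroup (`⁅g g', h⁆ = g ⁅g',h⁆ g⁻¹ ⁅g,h⁆`, the values commute with `x`, `p` and `r` commute), contains `1`, closed under squares by `T1`. Step 2: for a unit `s`, conjugate the formula at `(s⁻² t, 1)` by `T2 s` to get it at `(t, s⁻¹)`; `u = 0` is trivial (`y 0 = 1`).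
-/

set_option autoImplicit false

namespace Cfsg.Agent.Helper9.Sp4P

open Matrix Cfsg.Agent.Helper96.StemSLTwo Cfsg.Agent.Helper96.StPres Cfsg.Agent.Helper96.StC

universe u v

variable {K : Type u} [Field K] {D : Type v} [Group D]

theorem r6_ext_conj_comm (g a b : D) :
    g * (a * b * a⁻¹ * b⁻¹) * g⁻¹ =
      (g * a * g⁻¹) * (g * b * g⁻¹) * (g * a * g⁻¹)⁻¹ * (g * b * g⁻¹)⁻¹ := by
  group

theorem r6_ext_map_zero (f : K → D) (hf : ∀ t u, f (t + u) = f t * f u) : f 0 = 1 := by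
  have h := hf 0 0
  rw [add_zero] at h
  exact (mul_eq_left.mp h.symm)

theorem r6_ext_map_neg (f : K → D) (hf : ∀ t u, f (t + u) = f t * f u) (t : K) :
    f (-t) = (f t)⁻¹ := by
  have h := hf (-t) t
  rw [neg_add_cancel, r6_ext_map_zero f hf] at h
  exact eq_inv_of_mul_eq_one_left h.symm

theorem r6_ext [Fintype K] (x y p r : K → D) (hx : ∀ t u, x (t + u) = x t * x u)
    (hy : ∀ t u, y (t + u) = y t * y u) (hp : ∀ t u, p (t + u) = p t * p u)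
    (hr : ∀ t u, r (t + u) = r t * r u)
    (hxp : ∀ t v, Commute (x t) (p v)) (hxr : ∀ t v, Commute (x t) (r v))
    (hpr : ∀ v v', Commute (p v) (r v'))
    (T1 T2 : Kˣ → D)
    (hT1y : ∀ (s : Kˣ) (u : K), Commute (T1 s) (y u))
    (hT1x : ∀ (s : Kˣ) (t : K), T1 s * x t * (T1 s)⁻¹ = x ((s : K) ^ 2 * t))
    (hT1p : ∀ (s : Kˣ) (v : K), T1 s * p v * (T1 s)⁻¹ = p ((s : K) ^ 2 * v))
    (hT1r : ∀ (s : Kˣ) (v : K), T1 s * r v * (T1 s)⁻¹ = r ((s : K) ^ 2 * v))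
    (hT2x : ∀ (s : Kˣ) (t : K), T2 s * x t * (T2 s)⁻¹ = x ((s : K) ^ 2 * t))
    (hT2y : ∀ (s : Kˣ) (u : K), T2 s * y u * (T2 s)⁻¹ = y ((s : K)⁻¹ * u))
    (hT2p : ∀ (s : Kˣ) (v : K), T2 s * p v * (T2 s)⁻¹ = p ((s : K) * v))
    (hT2r : ∀ (s : Kˣ) (v : K), Commute (T2 s) (r v))
    (c1 c2 : K) (h1 : x 1 * y 1 * (x 1)⁻¹ * (y 1)⁻¹ = p c1 * r c2) :
    ∀ t u, x t * y u * (x t)⁻¹ * (y u)⁻¹ = p (c1 * (t * u)) * r (c2 * (t * u ^ 2)) := by
  have hx0 := r6_ext_map_zero x hx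
  have hy0 := r6_ext_map_zero y hy
  have hp0 := r6_ext_map_zero p hp
  have hr0 := r6_ext_map_zero r hr
  -- Step 1: the formula at `u = 1`
  let A : AddSubgroup K :=
    { carrier := {t | x t * y 1 * (x t)⁻¹ * (y 1)⁻¹ = p (c1 * t) * r (c2 * t)}
      zero_mem' := by
        change x 0 * y 1 * (x 0)⁻¹ * (y 1)⁻¹ = p (c1 * 0) * r (c2 * 0)
        rw [hx0, mul_zero, mul_zero, hp0, hr0]
        group
      add_mem' := by
        intro t t' ht ht'
        change x t * y 1 * (x t)⁻¹ * (y 1)⁻¹ = p (c1 * t) * r (c2 * t) at ht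
        change x t' * y 1 * (x t')⁻¹ * (y 1)⁻¹ = p (c1 * t') * r (c2 * t') at ht'
        change x (t + t') * y 1 * (x (t + t'))⁻¹ * (y 1)⁻¹ =
          p (c1 * (t + t')) * r (c2 * (t + t'))
        have e1 : x (t + t') * y 1 * (x (t + t'))⁻¹ * (y 1)⁻¹ =
            x t * (x t' * y 1 * (x t')⁻¹ * (y 1)⁻¹) * (x t)⁻¹ *
              (x t * y 1 * (x t)⁻¹ * (y 1)⁻¹) := by
          rw [hx]; group
        rw [e1, ht, ht']
        have e2 : x t * (p (c1 * t') * r (c2 * t')) * (x t)⁻¹ = p (c1 * t') * r (c2 * t') := by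
          have := (hxp t (c1 * t')).mul_right (hxr t (c2 * t'))
          rw [this.eq, mul_inv_cancel_right]
        rw [e2, mul_add, mul_add, hp, hr]
        have e3 := (hpr (c1 * t) (c2 * t')).eq
        calc p (c1 * t') * r (c2 * t') * (p (c1 * t) * r (c2 * t))
            = p (c1 * t') * (r (c2 * t') * p (c1 * t)) * r (c2 * t) := by group
          _ = p (c1 * t') * (p (c1 * t) * r (c2 * t')) * r (c2 * t) := by rw [← e3]
          _ = (p (c1 * t') * p (c1 * t)) * (r (c2 * t') * r (c2 * t)) := by group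
          _ = p (c1 * t) * p (c1 * t') * (r (c2 * t) * r (c2 * t')) := by
              rw [← hp, ← hp, ← hr, ← hr, add_comm (c1 * t'), add_comm (c2 * t')]
      neg_mem' := by
        intro t ht
        change x t * y 1 * (x t)⁻¹ * (y 1)⁻¹ = p (c1 * t) * r (c2 * t) at ht
        change x (-t) * y 1 * (x (-t))⁻¹ * (y 1)⁻¹ = p (c1 * -t) * r (c2 * -t)
        have e1 : x (-t) * y 1 * (x (-t))⁻¹ * (y 1)⁻¹ =
            (x t)⁻¹ * (x t * y 1 * (x t)⁻¹ * (y 1)⁻¹)⁻¹ * x t := by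
          rw [r6_ext_map_neg x hx]; group
        rw [e1, ht]
        have e2 : (x t)⁻¹ * (p (c1 * t) * r (c2 * t))⁻¹ * x t = (p (c1 * t) * r (c2 * t))⁻¹ := by
          have := ((hxp t (c1 * t)).mul_right (hxr t (c2 * t))).inv_right
          rw [mul_assoc, ← this.eq, inv_mul_cancel_left]
        rw [e2, mul_neg, mul_neg, r6_ext_map_neg p hp, r6_ext_map_neg r hr, _root_.mul_inv_rev]
        exact ((hpr (c1 * t) (c2 * t)).inv_left.inv_right).eq.symm }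
  have hA1 : (1 : K) ∈ A := by
    change x 1 * y 1 * (x 1)⁻¹ * (y 1)⁻¹ = p (c1 * 1) * r (c2 * 1)
    rw [mul_one, mul_one]; exact h1
  have hAsq : ∀ (s : Kˣ) (t : K), t ∈ A → (s : K) ^ 2 * t ∈ A := by
    intro s t ht
    change x t * y 1 * (x t)⁻¹ * (y 1)⁻¹ = p (c1 * t) * r (c2 * t) at ht
    change x ((s : K) ^ 2 * t) * y 1 * (x ((s : K) ^ 2 * t))⁻¹ * (y 1)⁻¹ =
      p (c1 * ((s : K) ^ 2 * t)) * r (c2 * ((s : K) ^ 2 * t))
    have e1 := r6_ext_conj_comm (T1 s) (x t) (y 1)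
    have e2 : T1 s * y 1 * (T1 s)⁻¹ = y 1 := by
      rw [(hT1y s 1).eq, mul_inv_cancel_right]
    rw [hT1x, e2, ht] at e1
    rw [← e1]
    have e3 : T1 s * (p (c1 * t) * r (c2 * t)) * (T1 s)⁻¹ =
        (T1 s * p (c1 * t) * (T1 s)⁻¹) * (T1 s * r (c2 * t) * (T1 s)⁻¹) := by group
    rw [e3, hT1p, hT1r]
    congr 2 <;> ring
  have hAtop : A = ⊤ := addSubgroup_eq_top_of_sq A hA1 hAsq
  have step1 : ∀ t : K, x t * y 1 * (x t)⁻¹ * (y 1)⁻¹ = p (c1 * t) * r (c2 * t) := by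
    intro t
    have : t ∈ A := by rw [hAtop]; exact AddSubgroup.mem_top t
    exact this
  -- Step 2
  intro t u
  by_cases hu : u = 0
  · subst hu
    rw [hy0, mul_zero, mul_zero, hp0, zero_pow two_ne_zero, mul_zero, mul_zero, hr0]
    group
  · let s : Kˣ := (Units.mk0 u hu)⁻¹
    have hs : (s : K) = u⁻¹ := by simp [s]
    have e1 := r6_ext_conj_comm (T2 s) (x (u ^ 2 * t)) (y 1)
    rw [step1, hT2x, hT2y] at e1
    have e3 : T2 s * (p (c1 * (u ^ 2 * t)) * r (c2 * (u ^ 2 * t))) * (T2 s)⁻¹ =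
        (T2 s * p (c1 * (u ^ 2 * t)) * (T2 s)⁻¹) * (T2 s * r (c2 * (u ^ 2 * t)) * (T2 s)⁻¹) := by
      group
    have e4 : T2 s * r (c2 * (u ^ 2 * t)) * (T2 s)⁻¹ = r (c2 * (u ^ 2 * t)) := by
      rw [(hT2r s _).eq, mul_inv_cancel_right]
    rw [e3, hT2p, e4, hs] at e1
    have a1 : (u⁻¹) ^ 2 * (u ^ 2 * t) = t := by field_simp
    have a2 : (u⁻¹)⁻¹ * 1 = u := by rw [inv_inv, mul_one]
    have a3 : u⁻¹ * (c1 * (u ^ 2 * t)) = c1 * (t * u) := by field_simp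
    have a4 : c2 * (u ^ 2 * t) = c2 * (t * u ^ 2) := by ring
    rw [a1, a2, a3, a4] at e1
    exact e1.symm

end Cfsg.Agent.Helper9.Sp4P
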