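import Mathlib
import Cfsg.Agent.Helper9.Sp4P.Defs
import Cfsg.Agent.Helper9.Sp4P.P_SL2F
import Cfsg.Agent.Helper9.Sp4P.P_EXT4
import Cfsg.Agent.Helper9.Sp4P.P_COMM
import Cfsg.Agent.Helper9.Sp4P.TorusActThm

/-!
# S2293 piece (B6) -- see `tools/helper9_s2293/README.md` and board WANTED of helper9.
`r6_ext` with `x = RR b`, `y u = RR a (-u)`, `p = RR ab`, `r = RR aab`, `c1 = 1`, `c2 = -1`; base `hc.r13` (unfold `RR`: `RR ab 1 = we L * xe S (-1) * (we L)⁻¹`, `RR aab (-1) = we S * xe L (-1) * (we S)⁻¹`); commutations `(b,ab)`, `(b,aab)`, `(ab,aab)` from `comm_all`; `T1 s = he S s * (he L s * he L s)` (fixes `a`, scales `b`, `ab`, `aab` by `s²`), `T2 s = he L s` (`b ↦ s²`, `a ↦ s⁻¹`, `ab ↦ s`, `aab` fixed). Finally substitute `u ↦ -u`.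
-/

set_option autoImplicit false
set_option linter.unusedSimpArgs false
set_option linter.unusedTactic false
set_option linter.unreachableTactic false

namespace Cfsg.Agent.Helper9.Sp4P

open Matrix Cfsg.Agent.Helper96.StemSLTwo Cfsg.Agent.Helper96.StPres Cfsg.Agent.Helper96.StC

universe u v

variable {K : Type u} [Field K] {D : Type v} [Group D]

/-- composing two conjugation actions on a one-parameter family -/
theorem b6_conj_mul_act {R : K → D} {g g' : D} {c c' : K}
    (h : ∀ t, g * R t * g⁻¹ = R (c * t)) (h' : ∀ t, g' * R t * g'⁻¹ = R (c' * t)) :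
    ∀ t, (g * g') * R t * (g * g')⁻¹ = R (c * c' * t) := by
  intro t
  have e : (g * g') * R t * (g * g')⁻¹ = g * (g' * R t * g'⁻¹) * g⁻¹ := by group
  rw [e, h', h, mul_assoc]

/-- all eight root families are additive -/
theorem b6_RR_add (L S : SL2 K →* D) (γ : Rt) (t u : K) :
    RR L S γ (t + u) = RR L S γ t * RR L S γ u := by
  have fL := sl2Facts L
  have fS := sl2Facts S
  cases γ <;> simp only [RR]
  · exact fS.x_add t u
  · exact fS.y_add t u
  · exact fL.x_add t u
  · exact fL.y_add t u
  · rw [neg_add, fS.x_add]; group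
  · rw [neg_add, fS.y_add]; group
  · rw [fL.x_add]; group
  · rw [fL.y_add]; group

theorem r6_base [Fintype K] {L S : SL2 K →* D} {z : Kˣ} (hz : ∀ s : Kˣ, ∃ n : ℕ, z ^ n = s) (hc : Cross L S z) :
    ∀ t u, RR L S Rt.b t * RR L S Rt.a u * (RR L S Rt.b t)⁻¹ * (RR L S Rt.a u)⁻¹ =
      RR L S Rt.ab (-(t * u)) * RR L S Rt.aab (-(t * u ^ 2)) := by
  have hT := torusAct hz hc
  have hC := comm_all hz hc
  have act1 : ∀ γ (s : Kˣ) t, (he S s * (he L s * he L s)) * RR L S γ t *
      (he S s * (he L s * he L s))⁻¹ = RR L S γ (((s ^ chS γ : Kˣ) : K) *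
        (((s ^ chL γ : Kˣ) : K) * ((s ^ chL γ : Kˣ) : K)) * t) :=
    fun γ s => b6_conj_mul_act (R := RR L S γ) (hT.actS γ s)
      (b6_conj_mul_act (R := RR L S γ) (hT.actL γ s) (hT.actL γ s))
  have key := r6_ext (K := K) (D := D) (RR L S Rt.b) (fun u => RR L S Rt.a (-u)) (RR L S Rt.ab)
    (RR L S Rt.aab)
    (b6_RR_add L S _) (fun t u => by rw [neg_add]; exact b6_RR_add L S _ _ _) (b6_RR_add L S _)
    (b6_RR_add L S _)
    (hC _ _ rfl) (hC _ _ rfl) (hC _ _ rfl)
    (fun s => he S s * (he L s * he L s)) (fun s => he L s)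
    (fun s u => by
      have h1 := act1 Rt.a s (-u)
      have h2 : ((s ^ chS Rt.a : Kˣ) : K) *
        (((s ^ chL Rt.a : Kˣ) : K) * ((s ^ chL Rt.a : Kˣ) : K)) * (-u) = -u := by
        have hs : (s : K) ≠ 0 := s.ne_zero
        first
        | (simp [chS, chL]; done)
        | (simp [chS, chL]; field_simp; done)
        | (simp [chS, chL]; ring; done)
        | (simp only [chS, chL, zpow_zero, zpow_one, Units.val_one]; ring)
      rw [h2] at h1
      exact mul_inv_eq_iff_eq_mul.1 h1)
    (fun s t => (act1 Rt.b s t).trans (by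
      have hs : (s : K) ≠ 0 := s.ne_zero
      have h2 : ((s ^ chS Rt.b : Kˣ) : K) *
        (((s ^ chL Rt.b : Kˣ) : K) * ((s ^ chL Rt.b : Kˣ) : K)) * t = (s : K) ^ 2 * t := by
        first
        | (simp [chS, chL]; done)
        | (simp [chS, chL]; field_simp; done)
        | (simp [chS, chL]; ring; done)
        | (simp only [chS, chL, zpow_zero, zpow_one, Units.val_one]; ring)
      rw [h2]))
    (fun s t => (act1 Rt.ab s t).trans (by
      have hs : (s : K) ≠ 0 := s.ne_zero
      have h2 : ((s ^ chS Rt.ab : Kˣ) : K) *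
        (((s ^ chL Rt.ab : Kˣ) : K) * ((s ^ chL Rt.ab : Kˣ) : K)) * t = (s : K) ^ 2 * t := by
        first
        | (simp [chS, chL]; done)
        | (simp [chS, chL]; field_simp; done)
        | (simp [chS, chL]; ring; done)
        | (simp only [chS, chL, zpow_zero, zpow_one, Units.val_one]; ring)
      rw [h2]))
    (fun s t => (act1 Rt.aab s t).trans (by
      have hs : (s : K) ≠ 0 := s.ne_zero
      have h2 : ((s ^ chS Rt.aab : Kˣ) : K) *
        (((s ^ chL Rt.aab : Kˣ) : K) * ((s ^ chL Rt.aab : Kˣ) : K)) * t = (s : K) ^ 2 * t := by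
        first
        | (simp [chS, chL]; done)
        | (simp [chS, chL]; field_simp; done)
        | (simp [chS, chL]; ring; done)
        | (simp only [chS, chL, zpow_zero, zpow_one, Units.val_one]; ring)
      rw [h2]))
    (fun s t => (hT.actL Rt.b s t).trans (by
      have hs : (s : K) ≠ 0 := s.ne_zero
      have h2 : ((s ^ chL Rt.b : Kˣ) : K) * t = (s : K) ^ 2 * t := by
        first
        | (simp [chS, chL]; done)
        | (simp [chS, chL]; field_simp; done)
        | (simp [chS, chL]; ring; done)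
        | (simp only [chS, chL, zpow_zero, zpow_one, Units.val_one]; ring)
      rw [h2]))
    (fun s u => (hT.actL Rt.a s (-u)).trans (by
      have hs : (s : K) ≠ 0 := s.ne_zero
      have h2 : ((s ^ chL Rt.a : Kˣ) : K) * (-u) = -((s : K)⁻¹ * u) := by
        first
        | (simp [chS, chL]; done)
        | (simp [chS, chL]; field_simp; done)
        | (simp [chS, chL]; ring; done)
        | (simp only [chS, chL, zpow_zero, zpow_one, Units.val_one]; ring)
      rw [h2]))
    (fun s v => (hT.actL Rt.ab s v).trans (by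
      have hs : (s : K) ≠ 0 := s.ne_zero
      have h2 : ((s ^ chL Rt.ab : Kˣ) : K) * v = (s : K) * v := by
        first
        | (simp [chS, chL]; done)
        | (simp [chS, chL]; field_simp; done)
        | (simp [chS, chL]; ring; done)
        | (simp only [chS, chL, zpow_zero, zpow_one, Units.val_one]; ring)
      rw [h2]))
    (fun s v => by
      have h1 := hT.actL Rt.aab s v
      have h2 : ((s ^ chL Rt.aab : Kˣ) : K) * v = v := by
        have hs : (s : K) ≠ 0 := s.ne_zero
        first
        | (simp [chS, chL]; done)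
        | (simp [chS, chL]; field_simp; done)
        | (simp [chS, chL]; ring; done)
        | (simp only [chS, chL, zpow_zero, zpow_one, Units.val_one]; ring)
      rw [h2] at h1
      exact mul_inv_eq_iff_eq_mul.1 h1)
    1 (-1) hc.r13
  intro t u
  have h := key t (-u)
  simp only [neg_neg] at h
  rw [h]
  congr 1 <;> congr 1 <;> ring

end Cfsg.Agent.Helper9.Sp4P
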