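import Mathlib
import Cfsg.Agent.Helper9.Sp4P.Defs
import Cfsg.Agent.Helper9.Sp4P.Defs2
import Cfsg.Agent.Helper9.Sp4P.P_B6
import Cfsg.Agent.Helper9.Sp4P.WeylActThm

/-!
# S2293 piece (R6) -- see `tools/helper9_s2293/README.md` and board WANTED of helper9.
Eight true cases of `r6T`. Transport `r6_base` (= case `(b, a)`) by `weylAct`: conjugating `⁅R γ t, R δ u⁆ = R ρ (ε tu) * R ρ' (ε' tu²)` for all `t u` by `w`. The eight (long, short) pairs form one orbit of `⟨sS, sL⟩`: `(b,a) -sS-> (aab,ma) -sL-> (aab,mab) -sS-> (b,mab) -sL-> (mb,ma) -sS-> (maab,a) -sL-> (maab,ab) -sS-> (mb,ab)`.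
(Proof: helper70.)
-/

set_option autoImplicit false

namespace Cfsg.Agent.Helper9.Sp4P

open Matrix Cfsg.Agent.Helper96.StemSLTwo Cfsg.Agent.Helper96.StPres Cfsg.Agent.Helper96.StC

universe u v

variable {K : Type u} [Field K] {D : Type v} [Group D]

/-- the signs of `we S` square to one -/
theorem R6_cS_sq (γ : Rt) : ((cS γ : ℤ) : K) * ((cS γ : ℤ) : K) = 1 := by
  cases γ <;> simp [cS]

/-- the signs of `we L` square to one -/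
theorem R6_cL_sq (γ : Rt) : ((cL γ : ℤ) : K) * ((cL γ : ℤ) : K) = 1 := by
  cases γ <;> simp [cL]

/-- conjugation of a commutator -/
theorem R6_conj_comm (w A B : D) :
    w * A * w⁻¹ * (w * B * w⁻¹) * (w * A * w⁻¹)⁻¹ * (w * B * w⁻¹)⁻¹ =
      w * (A * B * A⁻¹ * B⁻¹) * w⁻¹ := by
  group

/-- transport of an `r6` relation by `we S` -/
theorem R6_transS {L S : SL2 K →* D} (W : WeylAct L S) (γ δ ρ ρ' : Rt) (ε ε' : ℤ)
    (h : ∀ t u, RR L S γ t * RR L S δ u * (RR L S γ t)⁻¹ * (RR L S δ u)⁻¹ =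
      RR L S ρ ((ε : K) * (t * u)) * RR L S ρ' ((ε' : K) * (t * u ^ 2))) :
    ∀ t u, RR L S (sS γ) t * RR L S (sS δ) u * (RR L S (sS γ) t)⁻¹ * (RR L S (sS δ) u)⁻¹ =
      RR L S (sS ρ) (((cS ρ * cS γ * cS δ * ε : ℤ) : K) * (t * u)) *
        RR L S (sS ρ') (((cS ρ' * cS γ * ε' : ℤ) : K) * (t * u ^ 2)) := by
  intro t u
  have hγ : RR L S (sS γ) t = we S * RR L S γ ((cS γ : K) * t) * (we S)⁻¹ := by
    rw [W.actS, ← mul_assoc, R6_cS_sq, one_mul]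
  have hδ : RR L S (sS δ) u = we S * RR L S δ ((cS δ : K) * u) * (we S)⁻¹ := by
    rw [W.actS, ← mul_assoc, R6_cS_sq, one_mul]
  rw [hγ, hδ, R6_conj_comm, h]
  have e : we S * (RR L S ρ ((ε : K) * ((cS γ : K) * t * ((cS δ : K) * u))) *
      RR L S ρ' ((ε' : K) * ((cS γ : K) * t * ((cS δ : K) * u) ^ 2))) * (we S)⁻¹ =
      (we S * RR L S ρ ((ε : K) * ((cS γ : K) * t * ((cS δ : K) * u))) * (we S)⁻¹) *
      (we S * RR L S ρ' ((ε' : K) * ((cS γ : K) * t * ((cS δ : K) * u) ^ 2)) * (we S)⁻¹) := by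
    group
  rw [e, W.actS, W.actS]
  have hδ2 := R6_cS_sq (K := K) δ
  congr 2
  · push_cast
    ring
  · push_cast
    linear_combination ((cS ρ' : K) * (ε' : K) * (cS γ : K) * t * u ^ 2) * hδ2

/-- transport of an `r6` relation by `we L` -/
theorem R6_transL {L S : SL2 K →* D} (W : WeylAct L S) (γ δ ρ ρ' : Rt) (ε ε' : ℤ)
    (h : ∀ t u, RR L S γ t * RR L S δ u * (RR L S γ t)⁻¹ * (RR L S δ u)⁻¹ =
      RR L S ρ ((ε : K) * (t * u)) * RR L S ρ' ((ε' : K) * (t * u ^ 2))) :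
    ∀ t u, RR L S (sL γ) t * RR L S (sL δ) u * (RR L S (sL γ) t)⁻¹ * (RR L S (sL δ) u)⁻¹ =
      RR L S (sL ρ) (((cL ρ * cL γ * cL δ * ε : ℤ) : K) * (t * u)) *
        RR L S (sL ρ') (((cL ρ' * cL γ * ε' : ℤ) : K) * (t * u ^ 2)) := by
  intro t u
  have hγ : RR L S (sL γ) t = we L * RR L S γ ((cL γ : K) * t) * (we L)⁻¹ := by
    rw [W.actL, ← mul_assoc, R6_cL_sq, one_mul]
  have hδ : RR L S (sL δ) u = we L * RR L S δ ((cL δ : K) * u) * (we L)⁻¹ := by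
    rw [W.actL, ← mul_assoc, R6_cL_sq, one_mul]
  rw [hγ, hδ, R6_conj_comm, h]
  have e : we L * (RR L S ρ ((ε : K) * ((cL γ : K) * t * ((cL δ : K) * u))) *
      RR L S ρ' ((ε' : K) * ((cL γ : K) * t * ((cL δ : K) * u) ^ 2))) * (we L)⁻¹ =
      (we L * RR L S ρ ((ε : K) * ((cL γ : K) * t * ((cL δ : K) * u))) * (we L)⁻¹) *
      (we L * RR L S ρ' ((ε' : K) * ((cL γ : K) * t * ((cL δ : K) * u) ^ 2)) * (we L)⁻¹) := by
    group
  rw [e, W.actL, W.actL]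
  have hδ2 := R6_cL_sq (K := K) δ
  congr 2
  · push_cast
    ring
  · push_cast
    linear_combination ((cL ρ' : K) * (ε' : K) * (cL γ : K) * t * u ^ 2) * hδ2

theorem r6_all [Fintype K] {L S : SL2 K →* D} {z : Kˣ} (hz : ∀ s : Kˣ, ∃ n : ℕ, z ^ n = s) (hc : Cross L S z) :
    ∀ γ δ ρ ε ρ' ε', r6T γ δ = some (ρ, ε, ρ', ε') → ∀ t u,
      RR L S γ t * RR L S δ u * (RR L S γ t)⁻¹ * (RR L S δ u)⁻¹ =
        RR L S ρ ((ε : K) * (t * u)) * RR L S ρ' ((ε' : K) * (t * u ^ 2)) := by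
  have W := weylAct hz hc
  -- the base case `(b, a)`
  have c1 : ∀ t u : K, RR L S Rt.b t * RR L S Rt.a u * (RR L S Rt.b t)⁻¹ * (RR L S Rt.a u)⁻¹ =
      RR L S Rt.ab (((-1 : ℤ) : K) * (t * u)) * RR L S Rt.aab (((-1 : ℤ) : K) * (t * u ^ 2)) := by
    intro t u
    rw [r6_base hz hc t u]
    congr 2 <;> push_cast <;> ring
  have c2 : ∀ t u : K, RR L S Rt.aab t * RR L S Rt.ma u * (RR L S Rt.aab t)⁻¹ *
      (RR L S Rt.ma u)⁻¹ =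
      RR L S Rt.ab (((-1 : ℤ) : K) * (t * u)) * RR L S Rt.b (((-1 : ℤ) : K) * (t * u ^ 2)) :=
    R6_transS W Rt.b Rt.a Rt.ab Rt.aab (-1) (-1) c1
  have c3 : ∀ t u : K, RR L S Rt.aab t * RR L S Rt.mab u * (RR L S Rt.aab t)⁻¹ *
      (RR L S Rt.mab u)⁻¹ =
      RR L S Rt.a (((1 : ℤ) : K) * (t * u)) * RR L S Rt.mb (((1 : ℤ) : K) * (t * u ^ 2)) :=
    R6_transL W Rt.aab Rt.ma Rt.ab Rt.b (-1) (-1) c2
  have c4 : ∀ t u : K, RR L S Rt.b t * RR L S Rt.mab u * (RR L S Rt.b t)⁻¹ *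
      (RR L S Rt.mab u)⁻¹ =
      RR L S Rt.ma (((1 : ℤ) : K) * (t * u)) * RR L S Rt.maab (((1 : ℤ) : K) * (t * u ^ 2)) :=
    R6_transS W Rt.aab Rt.mab Rt.a Rt.mb 1 1 c3
  have c5 : ∀ t u : K, RR L S Rt.mb t * RR L S Rt.ma u * (RR L S Rt.mb t)⁻¹ *
      (RR L S Rt.ma u)⁻¹ =
      RR L S Rt.mab (((1 : ℤ) : K) * (t * u)) * RR L S Rt.maab (((-1 : ℤ) : K) * (t * u ^ 2)) :=
    R6_transL W Rt.b Rt.mab Rt.ma Rt.maab 1 1 c4
  have c6 : ∀ t u : K, RR L S Rt.maab t * RR L S Rt.a u * (RR L S Rt.maab t)⁻¹ *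
      (RR L S Rt.a u)⁻¹ =
      RR L S Rt.mab (((1 : ℤ) : K) * (t * u)) * RR L S Rt.mb (((-1 : ℤ) : K) * (t * u ^ 2)) :=
    R6_transS W Rt.mb Rt.ma Rt.mab Rt.maab 1 (-1) c5
  have c7 : ∀ t u : K, RR L S Rt.maab t * RR L S Rt.ab u * (RR L S Rt.maab t)⁻¹ *
      (RR L S Rt.ab u)⁻¹ =
      RR L S Rt.ma (((-1 : ℤ) : K) * (t * u)) * RR L S Rt.b (((1 : ℤ) : K) * (t * u ^ 2)) :=
    R6_transL W Rt.maab Rt.a Rt.mab Rt.mb 1 (-1) c6
  have c8 : ∀ t u : K, RR L S Rt.mb t * RR L S Rt.ab u * (RR L S Rt.mb t)⁻¹ *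
      (RR L S Rt.ab u)⁻¹ =
      RR L S Rt.a (((-1 : ℤ) : K) * (t * u)) * RR L S Rt.aab (((1 : ℤ) : K) * (t * u ^ 2)) :=
    R6_transS W Rt.maab Rt.ab Rt.ma Rt.b (-1) 1 c7
  intro γ δ ρ ε ρ' ε' h t u
  cases γ <;> cases δ <;>
    simp only [r6T, Option.some.injEq, Prod.mk.injEq, reduceCtorEq] at h <;>
    (obtain ⟨rfl, rfl, rfl, rfl⟩ := h
     first
     | exact c1 t u | exact c2 t u | exact c3 t u | exact c4 t u
     | exact c5 t u | exact c6 t u | exact c7 t u | exact c8 t u)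

end Cfsg.Agent.Helper9.Sp4P
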