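import Mathlib
import Cfsg.Agent.Helper9.Sp4P.Defs
import Cfsg.Agent.Helper9.Sp4P.Defs2

/-!
# S2293 piece (SPREL) -- see `tools/helper9_s2293/README.md` and board WANTED of helper9.
Pure bookkeeping over the 4-element index type `Fin 2 ⊕ Fin 2` (`rcases p with p | p <;> fin_cases p`, same for `q r s`; `simp [RX, cd, bar, eps]`). `sym`: by the table of `RX`. `add`: `h.add`. `comm`: excluded cases die by the hypotheses; the others are `h.comm _ _ rfl`/`(by decide)`. `mul`: vacuous for `m = 2` (three pairwise distinct, pairwise non-opposite indices do not exist). `r5`, `r6`: the eight cases `(p,q)` are exactly the eight entries of `r5T`, `r6T` (with `X f₂ f₁ t = R a (-t)`, `X f₁ f₂ t = R ma (-t)`).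
-/

set_option autoImplicit false
set_option linter.unusedSimpArgs false

namespace Cfsg.Agent.Helper9.Sp4P

open Matrix Cfsg.Agent.Helper96.StemSLTwo Cfsg.Agent.Helper96.StPres Cfsg.Agent.Helper96.StC

universe u v

variable {K : Type u} [Field K] {D : Type v} [Group D]

set_option maxHeartbeats 4000000 in
theorem spRel_of_c2Rel (L S : SL2 K →* D) (h : C2Rel (RR L S)) : SpRel (RX L S) := by
  refine ⟨?_, ?_, ?_, ?_, ?_, ?_⟩
  · -- sym
    intro p q hpq hqb t
    rcases p with p | p <;> rcases q with q | q <;> fin_cases p <;> fin_cases q <;>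
    first
    | exact absurd rfl hpq
    | exact absurd rfl hqb
    | simp [RX, cd, bar, eps]
  · -- add
    intro p q hpq t u
    rcases p with p | p <;> rcases q with q | q <;> fin_cases p <;> fin_cases q <;>
    first
    | exact absurd rfl hpq
    | (simp only [RX, cd, bar, Fin.mk_one, Fin.isValue, Sum.swap_inl, Sum.swap_inr,
         Fin.coe_ofNat_eq_mod, Nat.mod_succ, Nat.reduceAdd, Fin.zero_eta, Nat.zero_mod, add_zero]
       first
       | exact h.add _ _ _
       | (rw [neg_add]
          exact h.add _ _ _))
  · -- comm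
    intro p q r s hpq hrs hqr hqs hpr hps t u
    rcases p with p | p <;> rcases q with q | q <;> rcases r with r | r <;> rcases s with s | s <;>
    fin_cases p <;> fin_cases q <;> fin_cases r <;> fin_cases s <;>
    first
    | exact absurd rfl hpq
    | exact absurd rfl hrs
    | exact absurd rfl hqr
    | exact absurd rfl hqs
    | exact absurd rfl hpr
    | exact absurd rfl hps
    | (simp only [RX, cd, bar, Fin.mk_one, Fin.isValue, Sum.swap_inl, Sum.swap_inr,
         Fin.coe_ofNat_eq_mod, Nat.mod_succ, Nat.reduceAdd, Fin.zero_eta, Nat.zero_mod, add_zero]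
       exact (h.comm _ _ (by decide) _ _).eq)
  · -- mul
    intro p q s hpq hqs hps hpbq hqbs hpbs t u
    rcases p with p | p <;> rcases q with q | q <;> rcases s with s | s <;>
    fin_cases p <;> fin_cases q <;> fin_cases s <;>
    first
    | exact absurd rfl hpq
    | exact absurd rfl hqs
    | exact absurd rfl hps
    | exact absurd rfl hpbq
    | exact absurd rfl hqbs
    | exact absurd rfl hpbs
  · -- r5
    intro p q hpq hpbq t u
    rcases p with p | p <;> rcases q with q | q <;> fin_cases p <;> fin_cases q <;>
    first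
    | exact absurd rfl hpq
    | exact absurd rfl hpbq
    | (simp only [RX, cd, bar, Fin.mk_one, Fin.isValue, Sum.swap_inl, Sum.swap_inr,
         Fin.coe_ofNat_eq_mod, Nat.mod_succ, Nat.reduceAdd, Fin.zero_eta, Nat.zero_mod, add_zero]
       refine (h.r5 _ _ _ _ (by rfl) _ _).trans ?_
       congr 1
       push_cast
       ring)
  · -- r6
    intro p q hpq hpbq t u
    rcases p with p | p <;> rcases q with q | q <;> fin_cases p <;> fin_cases q <;>
    first
    | exact absurd rfl hpq
    | exact absurd rfl hpbq
    | (simp only [RX, cd, bar, Fin.mk_one, Fin.isValue, Sum.swap_inl, Sum.swap_inr,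
         Fin.coe_ofNat_eq_mod, Nat.mod_succ, Nat.reduceAdd, Fin.zero_eta, Nat.zero_mod, add_zero]
       refine (h.r6 _ _ _ _ _ _ (by rfl) _ _).trans ?_
       congr 1 <;> congr 1 <;> simp [eps])

end Cfsg.Agent.Helper9.Sp4P
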