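import Mathlib
import Cfsg.Agent.Helper9.Sp4P.Defs2
import Cfsg.Agent.Helper9.Sp4P.P_SL2F
import Cfsg.Agent.Helper9.Sp4P.P_COMM
import Cfsg.Agent.Helper9.Sp4P.P_R5
import Cfsg.Agent.Helper9.Sp4P.P_R6
import Cfsg.Agent.Helper9.Sp4P.P_SPREL

/-!
# S2293: the abstract theorem -- the cross relations imply the Steinberg relations of type `C₂`
-/

set_option autoImplicit false

namespace Cfsg.Agent.Helper9.Sp4P

open Matrix Cfsg.Agent.Helper96.StemSLTwo Cfsg.Agent.Helper96.StPres Cfsg.Agent.Helper96.StC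

universe u v

variable {K : Type u} [Field K] {D : Type v} [Group D]

theorem RR_add (L S : SL2 K →* D) (γ : Rt) (t u : K) :
    RR L S γ (t + u) = RR L S γ t * RR L S γ u := by
  have hL := sl2Facts L
  have hS := sl2Facts S
  cases γ
  · exact hS.x_add t u
  · exact hS.y_add t u
  · exact hL.x_add t u
  · exact hL.y_add t u
  · change we L * xe S (-(t + u)) * (we L)⁻¹ = we L * xe S (-t) * (we L)⁻¹ * (we L * xe S (-u) * (we L)⁻¹)
    rw [neg_add, hS.x_add]
    group
  · change we L * ye S (-(t + u)) * (we L)⁻¹ = we L * ye S (-t) * (we L)⁻¹ * (we L * ye S (-u) * (we L)⁻¹)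
    rw [neg_add, hS.y_add]
    group
  · change we S * xe L (t + u) * (we S)⁻¹ = we S * xe L t * (we S)⁻¹ * (we S * xe L u * (we S)⁻¹)
    rw [hL.x_add]
    group
  · change we S * ye L (t + u) * (we S)⁻¹ = we S * ye L t * (we S)⁻¹ * (we S * ye L u * (we S)⁻¹)
    rw [hL.y_add]
    group

theorem c2Rel_of_cross [Fintype K] {L S : SL2 K →* D} {z : Kˣ}
    (hz : ∀ s : Kˣ, ∃ n : ℕ, z ^ n = s) (hc : Cross L S z) : C2Rel (RR L S) :=
  ⟨RR_add L S, comm_all hz hc, r5_all hz hc, r6_all hz hc⟩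

/-- the cross relations imply the Steinberg relations of type `C₂` -/
theorem spRel_of_cross [Fintype K] {L S : SL2 K →* D} {z : Kˣ}
    (hz : ∀ s : Kˣ, ∃ n : ℕ, z ^ n = s) (hc : Cross L S z) : SpRel (RX L S) :=
  spRel_of_c2Rel L S (c2Rel_of_cross hz hc)

end Cfsg.Agent.Helper9.Sp4P
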