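import Mathlib
import Cfsg.Agent.Helper97.StCMult
import Cfsg.Agent.Helper9.Sp4P.Defs
import Cfsg.Agent.Helper9.Sp4P.Defs2

/-!
# S2293 piece (CEN) -- see `tools/helper9_s2293/README.md` and board WANTED of helper9.
The centre of `Sp₄(F)` is `{1, -1}` and `-1 = (eS F (WU 1)) ^ 2` (`coe_eS`, `WU_one_sq_coe` of Helper96/SLPresMat: `(WU 1)^2 = -1` in `SL₂`, so its image is `fromBlocks (-1) 0 0 (-1) = -1`). `-1` is central. Conversely `Cfsg.Agent.Helper97.card_center_sp (m := 2)`: the centre has `gcd 2 (q - 1) ≤ 2` elements; if `-1 ≠ 1` the two elements `1, -1` exhaust it, if `-1 = 1` (characteristic 2) then `q - 1` is odd and the centre is trivial. (Any other route is fine.)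
-/

set_option autoImplicit false

namespace Cfsg.Agent.Helper9.Sp4P

open Matrix Cfsg.Agent.Helper96.StemSLTwo Cfsg.Agent.Helper96.StPres Cfsg.Agent.Helper96.StC

universe u v

theorem coe_eS_WU_sq (F : Type u) [Field F] :
    (((eS F (WU (1 : F))) ^ 2 : Matrix.symplecticGroup (Fin 2) F) :
      Matrix (Fin 2 ⊕ Fin 2) (Fin 2 ⊕ Fin 2) F) = -1 := by
  rw [← map_pow, coe_eS, Matrix.SpecialLinearGroup.coe_inv,
    Cfsg.Agent.Helper96.SLPres.WU_one_sq_coe, Matrix.adjugate_fin_two_of]
  ext i j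
  rcases i with i | i <;> rcases j with j | j <;> fin_cases i <;> fin_cases j <;> simp

theorem eS_WU_sq_mem_center (F : Type u) [Field F] :
    (eS F (WU (1 : F))) ^ 2 ∈ Subgroup.center (Matrix.symplecticGroup (Fin 2) F) := by
  rw [Subgroup.mem_center_iff]
  intro h
  apply Subtype.ext
  have h1 := coe_eS_WU_sq F
  show (h : Matrix (Fin 2 ⊕ Fin 2) (Fin 2 ⊕ Fin 2) F) *
      (((eS F (WU (1 : F))) ^ 2 : Matrix.symplecticGroup (Fin 2) F) :
        Matrix (Fin 2 ⊕ Fin 2) (Fin 2 ⊕ Fin 2) F) =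
    (((eS F (WU (1 : F))) ^ 2 : Matrix.symplecticGroup (Fin 2) F) :
        Matrix (Fin 2 ⊕ Fin 2) (Fin 2 ⊕ Fin 2) F) * (h : Matrix (Fin 2 ⊕ Fin 2) (Fin 2 ⊕ Fin 2) F)
  rw [h1]
  simp

theorem center_sp4 (F : Type u) [Field F] [Fintype F] (g : Matrix.symplecticGroup (Fin 2) F)
    (hg : g ∈ Subgroup.center (Matrix.symplecticGroup (Fin 2) F)) :
    g = 1 ∨ g = (eS F (WU (1 : F))) ^ 2 := by
  classical
  have hcard := Cfsg.Agent.Helper97.StCMult.card_center_sp (F := F) 2 (by norm_num)
  have hz0 := eS_WU_sq_mem_center F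
  have hdvd : Nat.gcd 2 (Fintype.card F - 1) ∣ 2 := Nat.gcd_dvd_left _ _
  have h12 : Nat.gcd 2 (Fintype.card F - 1) = 1 ∨ Nat.gcd 2 (Fintype.card F - 1) = 2 :=
    (Nat.dvd_prime Nat.prime_two).1 hdvd
  by_cases h1 : (eS F (WU (1 : F))) ^ 2 = 1
  · -- characteristic 2
    left
    have hm : (((eS F (WU (1 : F))) ^ 2 : Matrix.symplecticGroup (Fin 2) F) :
      Matrix (Fin 2 ⊕ Fin 2) (Fin 2 ⊕ Fin 2) F) = 1 := by rw [h1]; rfl
    rw [coe_eS_WU_sq] at hm
    have hF : (-1 : F) = 1 := by
      have := congrFun (congrFun hm (Sum.inl 0)) (Sum.inl 0)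
      simpa using this
    have h2 : ((2 : ℕ) : F) = 0 := by
      have : (1 : F) + 1 = 0 := by nth_rewrite 1 [← hF]; ring
      push_cast
      rw [← this]; norm_num
    have hrc : ringChar F ∣ 2 := ringChar.dvd h2
    have hrc2 : ringChar F = 2 := by
      rcases (Nat.dvd_prime Nat.prime_two).1 hrc with h | h
      · exact absurd h (CharP.ringChar_ne_one)
      · exact h
    have heven : Fintype.card F % 2 = 0 := FiniteField.even_card_iff_char_two.1 hrc2
    have hpos : 0 < Fintype.card F := Fintype.card_pos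
    have hg1 : Nat.gcd 2 (Fintype.card F - 1) = 1 := by
      rcases h12 with h | h
      · exact h
      · exfalso
        have : 2 ∣ Fintype.card F - 1 := by
          have := Nat.gcd_dvd_right 2 (Fintype.card F - 1)
          rwa [h] at this
        omega
    rw [hg1] at hcard
    have hss : Subsingleton (Subgroup.center (Matrix.symplecticGroup (Fin 2) F)) :=
      (Nat.card_eq_one_iff_unique.1 hcard).1
    have := hss.elim ⟨g, hg⟩ ⟨1, Subgroup.one_mem _⟩
    exact congrArg Subtype.val this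
  · have hc2 : Nat.card (Subgroup.center (Matrix.symplecticGroup (Fin 2) F)) = 2 := by
      rcases h12 with h | h
      · exfalso
        rw [h] at hcard
        have hss : Subsingleton (Subgroup.center (Matrix.symplecticGroup (Fin 2) F)) :=
          (Nat.card_eq_one_iff_unique.1 hcard).1
        have := hss.elim ⟨_, hz0⟩ ⟨1, Subgroup.one_mem _⟩
        exact h1 (congrArg Subtype.val this)
      · rw [hcard, h]
    by_cases hg1 : g = 1
    · exact Or.inl hg1
    · right
      obtain ⟨y, -, hy⟩ := (Nat.card_eq_two_iff'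
        (1 : Subgroup.center (Matrix.symplecticGroup (Fin 2) F))).1 hc2
      have e1 := hy ⟨g, hg⟩ (fun h => hg1 (congrArg Subtype.val h))
      have e2 := hy ⟨_, hz0⟩ (fun h => h1 (congrArg Subtype.val h))
      have := e1.trans e2.symm
      exact congrArg Subtype.val this

end Cfsg.Agent.Helper9.Sp4P
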