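import Mathlib
import Cfsg.Agent.Helper96.StPresD
import Cfsg.Agent.Helper9.Sp4P.Defs
import Cfsg.Agent.Helper9.Sp4P.Defs2

/-!
# S2293 piece (GEN) -- see `tools/helper9_s2293/README.md` and board WANTED of helper9.
`SL₂(K)` is generated by the `uMat`, `lMat` (`Cfsg.Agent.Helper96.StPres.closure_uMat_lMat`), so `L.range = map L ⊤ = closure (L '' ...)` (`MonoidHom.map_closure`) and `L (uMat t) = RX L S e₂ f₂ t`, `L (lMat t) = RX L S f₂ e₂ t`, `S (uMat t) = RX L S e₁ e₂ t`, `S (lMat t) = RX L S e₂ e₁ t` (by `rfl`/`simp [RX, cd, RR, xe, ye]`; `e₁ = Sum.inl 0`, `e₂ = Sum.inl 1`, `f₂ = Sum.inr 1`).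
-/

set_option autoImplicit false

namespace Cfsg.Agent.Helper9.Sp4P

open Matrix Cfsg.Agent.Helper96.StemSLTwo Cfsg.Agent.Helper96.StPres Cfsg.Agent.Helper96.StC

universe u v

variable {K : Type u} [Field K] {D : Type v} [Group D]

theorem range_le_closure_RX (L S : SL2 K →* D) :
    L.range ≤ Subgroup.closure {g | ∃ p q, p ≠ q ∧ ∃ t, g = RX L S p q t} ∧
    S.range ≤ Subgroup.closure {g | ∃ p q, p ≠ q ∧ ∃ t, g = RX L S p q t} := by
  have hL1 : ∀ t : K, L (uMat K t) = RX L S (Sum.inl 1) (Sum.inr 1) t := fun t => rfl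
  have hL2 : ∀ t : K, L (lMat K t) = RX L S (Sum.inr 1) (Sum.inl 1) t := fun t => rfl
  have hS1 : ∀ t : K, S (uMat K t) = RX L S (Sum.inl 0) (Sum.inl 1) t := fun t => rfl
  have hS2 : ∀ t : K, S (lMat K t) = RX L S (Sum.inl 1) (Sum.inl 0) t := fun t => rfl
  constructor
  · rw [MonoidHom.range_eq_map, ← closure_uMat_lMat, MonoidHom.map_closure, Subgroup.closure_le]
    rintro _ ⟨_, ⟨⟨b, t⟩, rfl⟩, rfl⟩
    apply Subgroup.subset_closure
    cases b
    · exact ⟨Sum.inr 1, Sum.inl 1, by simp, t, by simpa using hL2 t⟩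
    · exact ⟨Sum.inl 1, Sum.inr 1, by simp, t, by simpa using hL1 t⟩
  · rw [MonoidHom.range_eq_map, ← closure_uMat_lMat, MonoidHom.map_closure, Subgroup.closure_le]
    rintro _ ⟨_, ⟨⟨b, t⟩, rfl⟩, rfl⟩
    apply Subgroup.subset_closure
    cases b
    · exact ⟨Sum.inl 1, Sum.inl 0, by simp, t, by simpa using hS2 t⟩
    · exact ⟨Sum.inl 0, Sum.inl 1, by simp, t, by simpa using hS1 t⟩

end Cfsg.Agent.Helper9.Sp4P
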