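import Mathlib
import Cfsg.Agent.Helper9.Sp4P.Defs
import Cfsg.Agent.Helper9.Sp4P.Defs2

/-!
# S2293 piece (M1a) -- see `tools/helper9_s2293/README.md` and board WANTED of helper9.
The cross relations r1-r5 in the matrix model. Matrix model: `coe_eL`, `coe_eS` (Defs2) give the 4×4 matrices as `fromBlocks`; `xe a t = a (uMat F t)`, `ye a t = a (lMat F t)`, `we a = a (WU 1)`, `he a s = a (dMat s _)` with `uMat_coe`, `lMat_coe`, `WU_coe`, `dMat_coe`; prove equalities in `symplecticGroup` by `Subtype.ext` and entrywise (`ext i j; rcases i with i | i <;> rcases j with j | j <;> fin_cases i <;> fin_cases j <;> simp [...]`), inverses via `mul_inv_eq_iff_eq_mul` or via `map_inv` of the homs `eL F`, `eS F` (e.g. `(we a)⁻¹ = a (WU 1)⁻¹`, and products inside one `SL₂` can be computed in `SL₂` first).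
-/

set_option autoImplicit false

namespace Cfsg.Agent.Helper9.Sp4P

open Matrix Cfsg.Agent.Helper96.StemSLTwo Cfsg.Agent.Helper96.StPres Cfsg.Agent.Helper96.StC

universe u v

section
variable (F : Type u) [Field F]

theorem M1a_he_eL (z : Fˣ) :
    ((he (eL F) z : Matrix.symplecticGroup (Fin 2) F) : Matrix (Fin 2 ⊕ Fin 2) (Fin 2 ⊕ Fin 2) F) =
      fromBlocks !![1, 0; 0, (z : F)] 0 0 !![1, 0; 0, (z : F)⁻¹] := by
  unfold he
  rw [coe_eL, dMat_coe]
  congr 1 <;> (ext i j; fin_cases i <;> fin_cases j <;> simp)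

theorem M1a_he_eS (z : Fˣ) :
    ((he (eS F) z : Matrix.symplecticGroup (Fin 2) F) : Matrix (Fin 2 ⊕ Fin 2) (Fin 2 ⊕ Fin 2) F) =
      fromBlocks !![(z : F), 0; 0, (z : F)⁻¹] 0 0 !![(z : F)⁻¹, 0; 0, (z : F)] := by
  unfold he
  rw [coe_eS, Matrix.SpecialLinearGroup.coe_inv, dMat_coe, Matrix.adjugate_fin_two_of]
  congr 1
  ext i j; fin_cases i <;> fin_cases j <;> simp

theorem M1a_xe_eL (t : F) :
    ((xe (eL F) t : Matrix.symplecticGroup (Fin 2) F) : Matrix (Fin 2 ⊕ Fin 2) (Fin 2 ⊕ Fin 2) F) =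
      fromBlocks 1 !![0, 0; 0, t] 0 1 := by
  unfold xe
  rw [coe_eL, uMat_coe]
  congr 1 <;> (ext i j; fin_cases i <;> fin_cases j <;> simp)

theorem M1a_xe_eS (t : F) :
    ((xe (eS F) t : Matrix.symplecticGroup (Fin 2) F) : Matrix (Fin 2 ⊕ Fin 2) (Fin 2 ⊕ Fin 2) F) =
      fromBlocks !![1, t; 0, 1] 0 0 !![1, 0; -t, 1] := by
  unfold xe
  rw [coe_eS, Matrix.SpecialLinearGroup.coe_inv, uMat_coe, Matrix.adjugate_fin_two_of]
  congr 1
  ext i j; fin_cases i <;> fin_cases j <;> simp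

theorem M1a_we_eL :
    ((we (eL F) : Matrix.symplecticGroup (Fin 2) F) : Matrix (Fin 2 ⊕ Fin 2) (Fin 2 ⊕ Fin 2) F) =
      fromBlocks !![1, 0; 0, 0] !![0, 0; 0, 1] !![0, 0; 0, -1] !![1, 0; 0, 0] := by
  unfold we
  rw [coe_eL, WU_coe _ one_ne_zero]
  congr 1 <;> (ext i j; fin_cases i <;> fin_cases j <;> simp)

theorem M1a_we_eS :
    ((we (eS F) : Matrix.symplecticGroup (Fin 2) F) : Matrix (Fin 2 ⊕ Fin 2) (Fin 2 ⊕ Fin 2) F) =
      fromBlocks !![0, 1; -1, 0] 0 0 !![0, 1; -1, 0] := by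
  unfold we
  rw [coe_eS, Matrix.SpecialLinearGroup.coe_inv, WU_coe _ one_ne_zero, Matrix.adjugate_fin_two_of]
  congr 1
  · ext i j; fin_cases i <;> fin_cases j <;> simp
  · ext i j; fin_cases i <;> fin_cases j <;> simp

end

theorem cross_model_a (F : Type u) [Field F] (z : Fˣ) :
    Commute (he (eS F) z) (he (eL F) z) ∧
    he (eL F) z * xe (eS F) 1 * (he (eL F) z)⁻¹ = xe (eS F) ((z : F)⁻¹) ∧
    he (eS F) z * xe (eL F) 1 * (he (eS F) z)⁻¹ = xe (eL F) (((z : F)⁻¹) ^ 2) ∧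
    we (eS F) * he (eL F) z * (we (eS F))⁻¹ = he (eS F) z * he (eL F) z ∧
    we (eL F) * he (eS F) z * (we (eL F))⁻¹ = he (eS F) z * he (eL F) z ^ 2 := by
  have hz : (z : F) ≠ 0 := z.ne_zero
  refine ⟨?_, ?_, ?_, ?_, ?_⟩
  · show he (eS F) z * he (eL F) z = he (eL F) z * he (eS F) z
    apply Subtype.ext
    rw [Submonoid.coe_mul, Submonoid.coe_mul, M1a_he_eS, M1a_he_eL, Matrix.fromBlocks_multiply,
      Matrix.fromBlocks_multiply]
    congr 1 <;> (ext i j; fin_cases i <;> fin_cases j <;> simp)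
  · rw [mul_inv_eq_iff_eq_mul]
    apply Subtype.ext
    rw [Submonoid.coe_mul, Submonoid.coe_mul, M1a_xe_eS, M1a_xe_eS, M1a_he_eL,
      Matrix.fromBlocks_multiply, Matrix.fromBlocks_multiply]
    congr 1 <;> (ext i j; fin_cases i <;> fin_cases j <;> simp)
  · rw [mul_inv_eq_iff_eq_mul]
    apply Subtype.ext
    rw [Submonoid.coe_mul, Submonoid.coe_mul, M1a_xe_eL, M1a_xe_eL, M1a_he_eS,
      Matrix.fromBlocks_multiply, Matrix.fromBlocks_multiply]
    congr 1 <;> (ext i j; fin_cases i <;> fin_cases j <;>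
      simp <;> field_simp)
  · rw [mul_inv_eq_iff_eq_mul]
    apply Subtype.ext
    rw [Submonoid.coe_mul, Submonoid.coe_mul, Submonoid.coe_mul, M1a_we_eS, M1a_he_eS, M1a_he_eL,
      Matrix.fromBlocks_multiply, Matrix.fromBlocks_multiply, Matrix.fromBlocks_multiply]
    congr 1 <;> (ext i j; fin_cases i <;> fin_cases j <;> simp)
  · rw [mul_inv_eq_iff_eq_mul, pow_two]
    apply Subtype.ext
    rw [Submonoid.coe_mul, Submonoid.coe_mul, Submonoid.coe_mul, Submonoid.coe_mul, M1a_we_eL,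
      M1a_he_eS, M1a_he_eL,
      Matrix.fromBlocks_multiply, Matrix.fromBlocks_multiply, Matrix.fromBlocks_multiply,
      Matrix.fromBlocks_multiply]
    congr 1 <;> (ext i j; fin_cases i <;> fin_cases j <;> simp)

end Cfsg.Agent.Helper9.Sp4P
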