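import Mathlib
import Cfsg.Agent.Helper9.Sp4P.Defs
import Cfsg.Agent.Helper9.Sp4P.Defs2

/-!
# S2293 piece (M1b) -- see `tools/helper9_s2293/README.md` and board WANTED of helper9.
The cross relations r6-r11 in the matrix model. Matrix model: `coe_eL`, `coe_eS` (Defs2) give the 4×4 matrices as `fromBlocks`; `xe a t = a (uMat F t)`, `ye a t = a (lMat F t)`, `we a = a (WU 1)`, `he a s = a (dMat s _)` with `uMat_coe`, `lMat_coe`, `WU_coe`, `dMat_coe`; prove equalities in `symplecticGroup` by `Subtype.ext` and entrywise (`ext i j; rcases i with i | i <;> rcases j with j | j <;> fin_cases i <;> fin_cases j <;> simp [...]`), inverses via `mul_inv_eq_iff_eq_mul` or via `map_inv` of the homs `eL F`, `eS F` (e.g. `(we a)⁻¹ = a (WU 1)⁻¹`, and products inside one `SL₂` can be computed in `SL₂` first).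
-/

set_option autoImplicit false
set_option linter.unusedSimpArgs false
set_option linter.unnecessarySeqFocus false

namespace Cfsg.Agent.Helper9.Sp4P

open Matrix Cfsg.Agent.Helper96.StemSLTwo Cfsg.Agent.Helper96.StPres Cfsg.Agent.Helper96.StC

universe u v

section aux

variable (F : Type u) [Field F]

theorem M1b_WU_inv_coe : (((WU (1 : F))⁻¹ : SL2 F) : Matrix (Fin 2) (Fin 2) F) = !![0, -1; 1, 0] := by
  rw [Matrix.SpecialLinearGroup.coe_inv, WU_coe 1 one_ne_zero, Matrix.adjugate_fin_two]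
  simp

theorem M1b_coe_xS (t : F) :
    ((xe (eS F) t : Matrix.symplecticGroup (Fin 2) F) : Matrix (Fin 2 ⊕ Fin 2) (Fin 2 ⊕ Fin 2) F) =
      fromBlocks !![1, t; 0, 1] 0 0 !![1, 0; -t, 1] := by
  unfold xe
  rw [coe_eS, Matrix.SpecialLinearGroup.coe_inv, uMat_coe, Matrix.adjugate_fin_two]
  congr 1
  ext i j; fin_cases i <;> fin_cases j <;> simp

theorem M1b_coe_yS (t : F) :
    ((ye (eS F) t : Matrix.symplecticGroup (Fin 2) F) : Matrix (Fin 2 ⊕ Fin 2) (Fin 2 ⊕ Fin 2) F) =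
      fromBlocks !![1, 0; t, 1] 0 0 !![1, -t; 0, 1] := by
  unfold ye
  rw [coe_eS, Matrix.SpecialLinearGroup.coe_inv, lMat_coe, Matrix.adjugate_fin_two]
  congr 1
  ext i j; fin_cases i <;> fin_cases j <;> simp

theorem M1b_coe_wS :
    ((we (eS F) : Matrix.symplecticGroup (Fin 2) F) : Matrix (Fin 2 ⊕ Fin 2) (Fin 2 ⊕ Fin 2) F) =
      fromBlocks !![0, 1; -1, 0] 0 0 !![0, 1; -1, 0] := by
  unfold we
  rw [coe_eS, M1b_WU_inv_coe, WU_coe 1 one_ne_zero]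
  congr 1
  · simp
  · ext i j; fin_cases i <;> fin_cases j <;> simp

theorem M1b_coe_wS_inv :
    (((we (eS F))⁻¹ : Matrix.symplecticGroup (Fin 2) F) : Matrix (Fin 2 ⊕ Fin 2) (Fin 2 ⊕ Fin 2) F) =
      fromBlocks !![0, -1; 1, 0] 0 0 !![0, -1; 1, 0] := by
  unfold we
  rw [← map_inv, coe_eS, inv_inv, M1b_WU_inv_coe, WU_coe 1 one_ne_zero]
  congr 1
  ext i j; fin_cases i <;> fin_cases j <;> simp

theorem M1b_coe_xL (t : F) :
    ((xe (eL F) t : Matrix.symplecticGroup (Fin 2) F) : Matrix (Fin 2 ⊕ Fin 2) (Fin 2 ⊕ Fin 2) F) =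
      fromBlocks 1 !![0, 0; 0, t] 0 1 := by
  unfold xe
  rw [coe_eL, uMat_coe]
  congr 1 <;> ext i j <;> fin_cases i <;> fin_cases j <;> simp

theorem M1b_coe_yL (t : F) :
    ((ye (eL F) t : Matrix.symplecticGroup (Fin 2) F) : Matrix (Fin 2 ⊕ Fin 2) (Fin 2 ⊕ Fin 2) F) =
      fromBlocks 1 0 !![0, 0; 0, t] 1 := by
  unfold ye
  rw [coe_eL, lMat_coe]
  congr 1 <;> ext i j <;> fin_cases i <;> fin_cases j <;> simp

theorem M1b_coe_wL :
    ((we (eL F) : Matrix.symplecticGroup (Fin 2) F) : Matrix (Fin 2 ⊕ Fin 2) (Fin 2 ⊕ Fin 2) F) =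
      fromBlocks !![1, 0; 0, 0] !![0, 0; 0, 1] !![0, 0; 0, -1] !![1, 0; 0, 0] := by
  unfold we
  rw [coe_eL, WU_coe 1 one_ne_zero]
  congr 1 <;> ext i j <;> fin_cases i <;> fin_cases j <;> simp

theorem M1b_coe_wL_inv :
    (((we (eL F))⁻¹ : Matrix.symplecticGroup (Fin 2) F) : Matrix (Fin 2 ⊕ Fin 2) (Fin 2 ⊕ Fin 2) F) =
      fromBlocks !![1, 0; 0, 0] !![0, 0; 0, -1] !![0, 0; 0, 1] !![1, 0; 0, 0] := by
  unfold we
  rw [← map_inv, coe_eL, M1b_WU_inv_coe]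
  congr 1 <;> ext i j <;> fin_cases i <;> fin_cases j <;> simp


theorem M1b_xe_inv {D : Type v} [Group D] (a : SL2 F →* D) (t : F) : (xe a t)⁻¹ = xe a (-t) := by
  unfold xe
  rw [← map_inv]
  congr 1
  apply inv_eq_of_mul_eq_one_right
  rw [← uMat_add, add_neg_cancel]
  apply Subtype.ext
  rw [uMat_coe]
  ext i j; fin_cases i <;> fin_cases j <;> simp

theorem M1b_ye_inv {D : Type v} [Group D] (a : SL2 F →* D) (t : F) : (ye a t)⁻¹ = ye a (-t) := by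
  unfold ye
  rw [← map_inv]
  congr 1
  apply inv_eq_of_mul_eq_one_right
  rw [← lMat_add, add_neg_cancel]
  apply Subtype.ext
  rw [lMat_coe]
  ext i j; fin_cases i <;> fin_cases j <;> simp

theorem M1b_r6 : we (eS F) * (we (eL F) * xe (eS F) 1 * (we (eL F))⁻¹) * (we (eS F))⁻¹ =
      we (eL F) * xe (eS F) (-1) * (we (eL F))⁻¹ := by
  apply Subtype.ext
  simp only [Submonoid.coe_mul, M1b_coe_xS, M1b_coe_yS, M1b_coe_wS, M1b_coe_wS_inv, M1b_coe_xL,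
    M1b_coe_yL, M1b_coe_wL, M1b_coe_wL_inv, Matrix.fromBlocks_multiply]
  congr 1 <;> ext i j <;> fin_cases i <;> fin_cases j <;> simp [Matrix.mul_apply, Fin.sum_univ_two]

theorem M1b_r7 : we (eS F) * (we (eL F) * ye (eS F) 1 * (we (eL F))⁻¹) * (we (eS F))⁻¹ =
      we (eL F) * ye (eS F) (-1) * (we (eL F))⁻¹ := by
  apply Subtype.ext
  simp only [Submonoid.coe_mul, M1b_coe_xS, M1b_coe_yS, M1b_coe_wS, M1b_coe_wS_inv, M1b_coe_xL,
    M1b_coe_yL, M1b_coe_wL, M1b_coe_wL_inv, Matrix.fromBlocks_multiply]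
  congr 1 <;> ext i j <;> fin_cases i <;> fin_cases j <;> simp [Matrix.mul_apply, Fin.sum_univ_two]

theorem M1b_r8 : Commute (we (eS F) * xe (eL F) 1 * (we (eS F))⁻¹) (xe (eL F) 1) := by
  apply Subtype.ext
  simp only [Submonoid.coe_mul, M1b_coe_xS, M1b_coe_yS, M1b_coe_wS, M1b_coe_wS_inv, M1b_coe_xL,
    M1b_coe_yL, M1b_coe_wL, M1b_coe_wL_inv, Matrix.fromBlocks_multiply]
  congr 1 <;> ext i j <;> fin_cases i <;> fin_cases j <;> simp [Matrix.mul_apply, Fin.sum_univ_two]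

theorem M1b_r9 : Commute (we (eS F) * xe (eL F) 1 * (we (eS F))⁻¹) (ye (eL F) 1) := by
  apply Subtype.ext
  simp only [Submonoid.coe_mul, M1b_coe_xS, M1b_coe_yS, M1b_coe_wS, M1b_coe_wS_inv, M1b_coe_xL,
    M1b_coe_yL, M1b_coe_wL, M1b_coe_wL_inv, Matrix.fromBlocks_multiply]
  congr 1 <;> ext i j <;> fin_cases i <;> fin_cases j <;> simp [Matrix.mul_apply, Fin.sum_univ_two]

theorem M1b_r10 : Commute (we (eS F) * ye (eL F) 1 * (we (eS F))⁻¹) (ye (eL F) 1) := by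
  apply Subtype.ext
  simp only [Submonoid.coe_mul, M1b_coe_xS, M1b_coe_yS, M1b_coe_wS, M1b_coe_wS_inv, M1b_coe_xL,
    M1b_coe_yL, M1b_coe_wL, M1b_coe_wL_inv, Matrix.fromBlocks_multiply]
  congr 1 <;> ext i j <;> fin_cases i <;> fin_cases j <;> simp [Matrix.mul_apply, Fin.sum_univ_two]

theorem M1b_r11 : Commute (xe (eS F) 1) (we (eS F) * xe (eL F) 1 * (we (eS F))⁻¹) := by
  apply Subtype.ext
  simp only [Submonoid.coe_mul, M1b_coe_xS, M1b_coe_yS, M1b_coe_wS, M1b_coe_wS_inv, M1b_coe_xL,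
    M1b_coe_yL, M1b_coe_wL, M1b_coe_wL_inv, Matrix.fromBlocks_multiply]
  congr 1 <;> ext i j <;> fin_cases i <;> fin_cases j <;> simp [Matrix.mul_apply, Fin.sum_univ_two]

end aux

theorem cross_model_b (F : Type u) [Field F] :
    we (eS F) * (we (eL F) * xe (eS F) 1 * (we (eL F))⁻¹) * (we (eS F))⁻¹ =
      we (eL F) * xe (eS F) (-1) * (we (eL F))⁻¹ ∧
    we (eS F) * (we (eL F) * ye (eS F) 1 * (we (eL F))⁻¹) * (we (eS F))⁻¹ =
      we (eL F) * ye (eS F) (-1) * (we (eL F))⁻¹ ∧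
    Commute (we (eS F) * xe (eL F) 1 * (we (eS F))⁻¹) (xe (eL F) 1) ∧
    Commute (we (eS F) * xe (eL F) 1 * (we (eS F))⁻¹) (ye (eL F) 1) ∧
    Commute (we (eS F) * ye (eL F) 1 * (we (eS F))⁻¹) (ye (eL F) 1) ∧
    Commute (xe (eS F) 1) (we (eS F) * xe (eL F) 1 * (we (eS F))⁻¹) := by
  exact ⟨M1b_r6 F, M1b_r7 F, M1b_r8 F, M1b_r9 F, M1b_r10 F, M1b_r11 F⟩

end Cfsg.Agent.Helper9.Sp4P
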