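import Mathlib
import Cfsg.Agent.Helper9.Sp4P.Defs
import Cfsg.Agent.Helper9.Sp4P.Defs2

/-!
# S2293 piece (M2a) -- see `tools/helper9_s2293/README.md` and board WANTED of helper9.
The family `RX` in the matrix model is helper96's `spM`, first index `e_i` (6 cases: `i = 0, 1`, `q` the three other indices; `RX` unfolds by `simp [RX, cd]`/`rfl`, `spM` of Helper96/StC/Defs with `bar`, `eps`). Matrix model: `coe_eL`, `coe_eS` (Defs2) give the 4×4 matrices as `fromBlocks`; `xe a t = a (uMat F t)`, `ye a t = a (lMat F t)`, `we a = a (WU 1)`, `he a s = a (dMat s _)` with `uMat_coe`, `lMat_coe`, `WU_coe`, `dMat_coe`; prove equalities in `symplecticGroup` by `Subtype.ext` and entrywise (`ext i j; rcases i with i | i <;> rcases j with j | j <;> fin_cases i <;> fin_cases j <;> simp [...]`), inverses via `mul_inv_eq_iff_eq_mul` or via `map_inv` of the homs `eL F`, `eS F` (e.g. `(we a)⁻¹ = a (WU 1)⁻¹`, and products inside one `SL₂` can be computed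 in `SL₂` first).
-/

set_option autoImplicit false

namespace Cfsg.Agent.Helper9.Sp4P

open Matrix Cfsg.Agent.Helper96.StemSLTwo Cfsg.Agent.Helper96.StPres Cfsg.Agent.Helper96.StC

universe u v

theorem M2a_WU_one_coe (F : Type u) [Field F] :
    ((WU (1:F)) : Matrix (Fin 2) (Fin 2) F) = !![0, 1; -1, 0] := by
  rw [WU_coe 1 one_ne_zero]; simp

theorem M2a_WU_one_inv_coe (F : Type u) [Field F] :
    (((WU (1:F))⁻¹ : SL2 F) : Matrix (Fin 2) (Fin 2) F) = !![0, -1; 1, 0] := by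
  rw [Matrix.SpecialLinearGroup.coe_inv, M2a_WU_one_coe, Matrix.adjugate_fin_two_of]; simp

/-- the matrix of a conjugate `a g * b h * (a g)⁻¹` -/
theorem M2a_coe_conj (F : Type u) [Field F] (a b : SL2 F →* Matrix.symplecticGroup (Fin 2) F)
    (g h : SL2 F) :
    ((a g * b h * (a g)⁻¹ : Matrix.symplecticGroup (Fin 2) F) :
        Matrix (Fin 2 ⊕ Fin 2) (Fin 2 ⊕ Fin 2) F) =
      ((a g : Matrix.symplecticGroup (Fin 2) F) : Matrix (Fin 2 ⊕ Fin 2) (Fin 2 ⊕ Fin 2) F) *
      ((b h : Matrix.symplecticGroup (Fin 2) F) : Matrix (Fin 2 ⊕ Fin 2) (Fin 2 ⊕ Fin 2) F) *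
      ((a g⁻¹ : Matrix.symplecticGroup (Fin 2) F) : Matrix (Fin 2 ⊕ Fin 2) (Fin 2 ⊕ Fin 2) F) := by
  rw [← map_inv]
  rfl

theorem RX_model_inl (F : Type u) [Field F] (i : Fin 2) (q : Fin 2 ⊕ Fin 2)
    (hq : Sum.inl i ≠ q) (t : F) :
    ((RX (eL F) (eS F) (Sum.inl i) q t : Matrix.symplecticGroup (Fin 2) F) :
      Matrix (Fin 2 ⊕ Fin 2) (Fin 2 ⊕ Fin 2) F) = spM (Sum.inl i) q t := by
  fin_cases i <;> rcases q with j | j <;> fin_cases j
  · exact absurd rfl hq
  · -- (0,1): a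
    change (↑(eS F (uMat F t)) : Matrix (Fin 2 ⊕ Fin 2) (Fin 2 ⊕ Fin 2) F) = _
    rw [coe_eS]
    ext a b
    rcases a with a | a <;> rcases b with b | b <;> fin_cases a <;> fin_cases b <;>
      simp [spM, bar, eps, uMat_coe, Matrix.single, Matrix.SpecialLinearGroup.coe_inv, Matrix.adjugate_fin_two_of]
  · -- (0,2): aab
    change (↑(eS F (WU 1) * eL F (uMat F t) * (eS F (WU 1))⁻¹) :
      Matrix (Fin 2 ⊕ Fin 2) (Fin 2 ⊕ Fin 2) F) = _
    rw [M2a_coe_conj, coe_eS, coe_eS, coe_eL, inv_inv, M2a_WU_one_coe, M2a_WU_one_inv_coe]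
    ext a b
    rcases a with a | a <;> rcases b with b | b <;> fin_cases a <;> fin_cases b <;>
      simp [spM, bar, uMat_coe, Matrix.single, Matrix.mul_apply, Fin.sum_univ_two, Matrix.fromBlocks_multiply, Matrix.vecMul_diagonal]
  · -- (0,3): ab
    change (↑(eL F (WU 1) * eS F (uMat F (-t)) * (eL F (WU 1))⁻¹) :
      Matrix (Fin 2 ⊕ Fin 2) (Fin 2 ⊕ Fin 2) F) = _
    rw [M2a_coe_conj, coe_eL, coe_eL, coe_eS, M2a_WU_one_coe, M2a_WU_one_inv_coe]
    ext a b
    rcases a with a | a <;> rcases b with b | b <;> fin_cases a <;> fin_cases b <;>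
      simp [spM, bar, eps, uMat_coe, Matrix.single, Matrix.mul_apply, Fin.sum_univ_two, Matrix.fromBlocks_multiply, Matrix.SpecialLinearGroup.coe_inv, Matrix.adjugate_fin_two_of]
  · -- (1,0): ma
    change (↑(eS F (lMat F t)) : Matrix (Fin 2 ⊕ Fin 2) (Fin 2 ⊕ Fin 2) F) = _
    rw [coe_eS]
    ext a b
    rcases a with a | a <;> rcases b with b | b <;> fin_cases a <;> fin_cases b <;>
      simp [spM, bar, eps, lMat_coe, Matrix.single, Matrix.SpecialLinearGroup.coe_inv, Matrix.adjugate_fin_two_of]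
  · exact absurd rfl hq
  · -- (1,2): ab
    change (↑(eL F (WU 1) * eS F (uMat F (-t)) * (eL F (WU 1))⁻¹) :
      Matrix (Fin 2 ⊕ Fin 2) (Fin 2 ⊕ Fin 2) F) = _
    rw [M2a_coe_conj, coe_eL, coe_eL, coe_eS, M2a_WU_one_coe, M2a_WU_one_inv_coe]
    ext a b
    rcases a with a | a <;> rcases b with b | b <;> fin_cases a <;> fin_cases b <;>
      simp [spM, bar, eps, uMat_coe, Matrix.single, Matrix.mul_apply, Fin.sum_univ_two, Matrix.fromBlocks_multiply, Matrix.SpecialLinearGroup.coe_inv, Matrix.adjugate_fin_two_of]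
  · -- (1,3): b
    change (↑(eL F (uMat F t)) : Matrix (Fin 2 ⊕ Fin 2) (Fin 2 ⊕ Fin 2) F) = _
    rw [coe_eL]
    ext a b
    rcases a with a | a <;> rcases b with b | b <;> fin_cases a <;> fin_cases b <;>
      simp [spM, bar, uMat_coe, Matrix.single]

end Cfsg.Agent.Helper9.Sp4P
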