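import Mathlib
import Cfsg.Agent.Helper9.Sp4P.Defs
import Cfsg.Agent.Helper9.Sp4P.Defs2

/-!
# S2293 piece (M2b) -- see `tools/helper9_s2293/README.md` and board WANTED of helper9.
The family `RX` in the matrix model is helper96's `spM`, first index `f_i` (6 cases). Matrix model: `coe_eL`, `coe_eS` (Defs2) give the 4×4 matrices as `fromBlocks`; `xe a t = a (uMat F t)`, `ye a t = a (lMat F t)`, `we a = a (WU 1)`, `he a s = a (dMat s _)` with `uMat_coe`, `lMat_coe`, `WU_coe`, `dMat_coe`; prove equalities in `symplecticGroup` by `Subtype.ext` and entrywise (`ext i j; rcases i with i | i <;> rcases j with j | j <;> fin_cases i <;> fin_cases j <;> simp [...]`), inverses via `mul_inv_eq_iff_eq_mul` or via `map_inv` of the homs `eL F`, `eS F` (e.g. `(we a)⁻¹ = a (WU 1)⁻¹`, and products inside one `SL₂` can be computed in `SL₂` first).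
-/

set_option autoImplicit false

namespace Cfsg.Agent.Helper9.Sp4P

open Matrix Cfsg.Agent.Helper96.StemSLTwo Cfsg.Agent.Helper96.StPres Cfsg.Agent.Helper96.StC

universe u v

set_option linter.unusedSimpArgs false

section
variable (F : Type u) [Field F]

theorem M2b_xe_eS (t : F) :
    ((xe (eS F) t : Matrix.symplecticGroup (Fin 2) F) : Matrix (Fin 2 ⊕ Fin 2) (Fin 2 ⊕ Fin 2) F) =
      fromBlocks !![1, t; 0, 1] 0 0 !![1, 0; -t, 1] := by
  unfold xe
  rw [coe_eS, Matrix.SpecialLinearGroup.coe_inv, uMat_coe, Matrix.adjugate_fin_two_of]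
  congr 1
  ext i j; fin_cases i <;> fin_cases j <;> simp

theorem M2b_ye_eS (t : F) :
    ((ye (eS F) t : Matrix.symplecticGroup (Fin 2) F) : Matrix (Fin 2 ⊕ Fin 2) (Fin 2 ⊕ Fin 2) F) =
      fromBlocks !![1, 0; t, 1] 0 0 !![1, -t; 0, 1] := by
  unfold ye
  rw [coe_eS, Matrix.SpecialLinearGroup.coe_inv, lMat_coe, Matrix.adjugate_fin_two_of]
  congr 1
  ext i j; fin_cases i <;> fin_cases j <;> simp

theorem M2b_ye_eL (t : F) :
    ((ye (eL F) t : Matrix.symplecticGroup (Fin 2) F) : Matrix (Fin 2 ⊕ Fin 2) (Fin 2 ⊕ Fin 2) F) =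
      fromBlocks 1 0 !![0, 0; 0, t] 1 := by
  unfold ye
  rw [coe_eL, lMat_coe]
  congr 1 <;> (ext i j; fin_cases i <;> fin_cases j <;> simp)

theorem M2b_we_eL :
    ((we (eL F) : Matrix.symplecticGroup (Fin 2) F) : Matrix (Fin 2 ⊕ Fin 2) (Fin 2 ⊕ Fin 2) F) =
      fromBlocks !![1, 0; 0, 0] !![0, 0; 0, 1] !![0, 0; 0, -1] !![1, 0; 0, 0] := by
  unfold we
  rw [coe_eL, WU_coe _ one_ne_zero]
  congr 1 <;> (ext i j; fin_cases i <;> fin_cases j <;> simp)

theorem M2b_we_eS :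
    ((we (eS F) : Matrix.symplecticGroup (Fin 2) F) : Matrix (Fin 2 ⊕ Fin 2) (Fin 2 ⊕ Fin 2) F) =
      fromBlocks !![0, 1; -1, 0] 0 0 !![0, 1; -1, 0] := by
  unfold we
  rw [coe_eS, Matrix.SpecialLinearGroup.coe_inv, WU_coe _ one_ne_zero, Matrix.adjugate_fin_two_of]
  congr 1
  · ext i j; fin_cases i <;> fin_cases j <;> simp
  · ext i j; fin_cases i <;> fin_cases j <;> simp

theorem M2b_we_eL_inv :
    (((we (eL F))⁻¹ : Matrix.symplecticGroup (Fin 2) F) :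
      Matrix (Fin 2 ⊕ Fin 2) (Fin 2 ⊕ Fin 2) F) =
      fromBlocks !![1, 0; 0, 0] !![0, 0; 0, -1] !![0, 0; 0, 1] !![1, 0; 0, 0] := by
  have e : (we (eL F))⁻¹ = eL F ((WU (1 : F))⁻¹) := by
    unfold we
    rw [map_inv]
  rw [e, coe_eL, Matrix.SpecialLinearGroup.coe_inv, WU_coe _ one_ne_zero,
    Matrix.adjugate_fin_two_of]
  congr 1 <;> (ext i j; fin_cases i <;> fin_cases j <;> simp)

theorem M2b_we_eS_inv :
    (((we (eS F))⁻¹ : Matrix.symplecticGroup (Fin 2) F) :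
      Matrix (Fin 2 ⊕ Fin 2) (Fin 2 ⊕ Fin 2) F) =
      fromBlocks !![0, -1; 1, 0] 0 0 !![0, -1; 1, 0] := by
  have e : (we (eS F))⁻¹ = eS F ((WU (1 : F))⁻¹) := by
    unfold we
    rw [map_inv]
  rw [e, coe_eS, inv_inv, Matrix.SpecialLinearGroup.coe_inv, WU_coe _ one_ne_zero,
    Matrix.adjugate_fin_two_of]
  congr 1
  · ext i j; fin_cases i <;> fin_cases j <;> simp
  · ext i j; fin_cases i <;> fin_cases j <;> simp

/-- `(f₁, f₂)` -/
theorem M2b_c23 (t : F) :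
    ((RX (eL F) (eS F) (Sum.inr 0) (Sum.inr 1) t : Matrix.symplecticGroup (Fin 2) F) :
      Matrix (Fin 2 ⊕ Fin 2) (Fin 2 ⊕ Fin 2) F) = spM (Sum.inr 0) (Sum.inr 1) t := by
  have e : RX (eL F) (eS F) (Sum.inr 0) (Sum.inr 1) t = ye (eS F) (-t) := rfl
  rw [e, M2b_ye_eS]
  ext a b
  rcases a with a | a <;> rcases b with b | b <;> fin_cases a <;> fin_cases b <;>
    simp [spM, eps, Matrix.single_apply, Matrix.one_apply]

/-- `(f₂, f₁)` -/
theorem M2b_c32 (t : F) :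
    ((RX (eL F) (eS F) (Sum.inr 1) (Sum.inr 0) t : Matrix.symplecticGroup (Fin 2) F) :
      Matrix (Fin 2 ⊕ Fin 2) (Fin 2 ⊕ Fin 2) F) = spM (Sum.inr 1) (Sum.inr 0) t := by
  have e : RX (eL F) (eS F) (Sum.inr 1) (Sum.inr 0) t = xe (eS F) (-t) := rfl
  rw [e, M2b_xe_eS]
  ext a b
  rcases a with a | a <;> rcases b with b | b <;> fin_cases a <;> fin_cases b <;>
    simp [spM, eps, Matrix.single_apply, Matrix.one_apply]

/-- `(f₂, e₂)` -/
theorem M2b_c31 (t : F) :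
    ((RX (eL F) (eS F) (Sum.inr 1) (Sum.inl 1) t : Matrix.symplecticGroup (Fin 2) F) :
      Matrix (Fin 2 ⊕ Fin 2) (Fin 2 ⊕ Fin 2) F) = spM (Sum.inr 1) (Sum.inl 1) t := by
  have e : RX (eL F) (eS F) (Sum.inr 1) (Sum.inl 1) t = ye (eL F) t := rfl
  rw [e, M2b_ye_eL]
  ext a b
  rcases a with a | a <;> rcases b with b | b <;> fin_cases a <;> fin_cases b <;>
    simp [spM, eps, Matrix.single_apply, Matrix.one_apply]

/-- `(f₁, e₁)` -/
theorem M2b_c20 (t : F) :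
    ((RX (eL F) (eS F) (Sum.inr 0) (Sum.inl 0) t : Matrix.symplecticGroup (Fin 2) F) :
      Matrix (Fin 2 ⊕ Fin 2) (Fin 2 ⊕ Fin 2) F) = spM (Sum.inr 0) (Sum.inl 0) t := by
  have e : RX (eL F) (eS F) (Sum.inr 0) (Sum.inl 0) t =
      we (eS F) * ye (eL F) t * (we (eS F))⁻¹ := rfl
  rw [e, Submonoid.coe_mul, Submonoid.coe_mul, M2b_we_eS, M2b_ye_eL, M2b_we_eS_inv,
    Matrix.fromBlocks_multiply, Matrix.fromBlocks_multiply]
  ext a b
  rcases a with a | a <;> rcases b with b | b <;> fin_cases a <;> fin_cases b <;>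
    simp [spM, eps, Matrix.single_apply, Matrix.one_apply]

/-- `(f₂, e₁)` -/
theorem M2b_c30 (t : F) :
    ((RX (eL F) (eS F) (Sum.inr 1) (Sum.inl 0) t : Matrix.symplecticGroup (Fin 2) F) :
      Matrix (Fin 2 ⊕ Fin 2) (Fin 2 ⊕ Fin 2) F) = spM (Sum.inr 1) (Sum.inl 0) t := by
  have e : RX (eL F) (eS F) (Sum.inr 1) (Sum.inl 0) t =
      we (eL F) * ye (eS F) (-t) * (we (eL F))⁻¹ := rfl
  rw [e, Submonoid.coe_mul, Submonoid.coe_mul, M2b_we_eL, M2b_ye_eS, M2b_we_eL_inv,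
    Matrix.fromBlocks_multiply, Matrix.fromBlocks_multiply]
  ext a b
  rcases a with a | a <;> rcases b with b | b <;> fin_cases a <;> fin_cases b <;>
    simp [spM, eps, Matrix.single_apply, Matrix.one_apply]

/-- `(f₁, e₂)` -/
theorem M2b_c21 (t : F) :
    ((RX (eL F) (eS F) (Sum.inr 0) (Sum.inl 1) t : Matrix.symplecticGroup (Fin 2) F) :
      Matrix (Fin 2 ⊕ Fin 2) (Fin 2 ⊕ Fin 2) F) = spM (Sum.inr 0) (Sum.inl 1) t := by
  have e : RX (eL F) (eS F) (Sum.inr 0) (Sum.inl 1) t =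
      we (eL F) * ye (eS F) (-t) * (we (eL F))⁻¹ := rfl
  rw [e, Submonoid.coe_mul, Submonoid.coe_mul, M2b_we_eL, M2b_ye_eS, M2b_we_eL_inv,
    Matrix.fromBlocks_multiply, Matrix.fromBlocks_multiply]
  ext a b
  rcases a with a | a <;> rcases b with b | b <;> fin_cases a <;> fin_cases b <;>
    simp [spM, eps, Matrix.single_apply, Matrix.one_apply]

end

theorem RX_model_inr (F : Type u) [Field F] (i : Fin 2) (q : Fin 2 ⊕ Fin 2)
    (hq : Sum.inr i ≠ q) (t : F) :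
    ((RX (eL F) (eS F) (Sum.inr i) q t : Matrix.symplecticGroup (Fin 2) F) :
      Matrix (Fin 2 ⊕ Fin 2) (Fin 2 ⊕ Fin 2) F) = spM (Sum.inr i) q t := by
  fin_cases i <;> rcases q with q | q <;> fin_cases q
  · exact M2b_c20 F t
  · exact M2b_c21 F t
  · exact absurd rfl hq
  · exact M2b_c23 F t
  · exact M2b_c30 F t
  · exact M2b_c31 F t
  · exact M2b_c32 F t
  · exact absurd rfl hq

end Cfsg.Agent.Helper9.Sp4P
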