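import Mathlib
import Cfsg.Agent.Helper9.Sp4P.Defs
import Cfsg.Agent.Helper9.Sp4P.Defs2

/-!
# S2293 piece (NAT) -- see `tools/helper9_s2293/README.md` and board WANTED of helper9.
Naturality of `RX` (and of `RR`) under a homomorphism: unfold (`RX`, `RR`, `xe`, `ye`, `we`), `map_mul`, `map_inv`; case split on `cd p`, `cd q` (or `rcases p with p | p <;> fin_cases p`, same for `q`).
-/

set_option autoImplicit false

namespace Cfsg.Agent.Helper9.Sp4P

open Matrix Cfsg.Agent.Helper96.StemSLTwo Cfsg.Agent.Helper96.StPres Cfsg.Agent.Helper96.StC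

universe u v

variable {K : Type u} [Field K] {D : Type v} [Group D]

/-- naturality of `RR` (filled by helper15) -/
theorem map_RR {E : Type*} [Group E] (φ : D →* E) (L S : SL2 K →* D) (γ : Rt) (t : K) :
    φ (RR L S γ t) = RR (φ.comp L) (φ.comp S) γ t := by
  cases γ <;> simp only [RR, xe, ye, we, map_mul, map_inv, MonoidHom.comp_apply]

theorem map_RX {E : Type*} [Group E] (φ : D →* E) (L S : SL2 K →* D) (p q : Fin 2 ⊕ Fin 2)
    (t : K) : φ (RX L S p q t) = RX (φ.comp L) (φ.comp S) p q t := by
  unfold RX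
  split <;> first | exact map_RR φ L S _ _ | exact map_one φ

end Cfsg.Agent.Helper9.Sp4P
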