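import Mathlib


/-!
# S2293 piece (QUOT) -- see `tools/helper9_s2293/README.md` and board WANTED of helper9.
Generic version of helper96's `psl_bijective` (Helper96/SLPresOddMain.lean), same proof.
-/

set_option autoImplicit false

namespace Cfsg.Agent.Helper9.Sp4P



universe u v

theorem quot_bijective {G : Type*} [Group G] {D D' : Type*} [Group D] [Group D']
    (ε : D →* G) (hε : Function.Surjective ε)
    (ψ : D →* D') (hψ : Function.Surjective ψ)
    (π' : D' →* G ⧸ Subgroup.center G)
    (hc : ∀ g : D, ε g ∈ Subgroup.center G → ψ g = 1)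
    (hcomp : ∀ g : D, π' (ψ g) = QuotientGroup.mk (ε g)) : Function.Bijective π' := by
  constructor
  · rw [injective_iff_map_eq_one]
    intro d' hd'
    obtain ⟨d, rfl⟩ := hψ d'
    rw [hcomp d] at hd'
    exact hc d ((QuotientGroup.eq_one_iff (ε d)).mp hd')
  · intro x
    obtain ⟨g, rfl⟩ := QuotientGroup.mk_surjective x
    obtain ⟨d, rfl⟩ := hε g
    exact ⟨ψ d, hcomp d⟩

end Cfsg.Agent.Helper9.Sp4P
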