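import Mathlib
import Cfsg.Agent.Helper9.Sp4P.MainA
import Cfsg.Agent.Helper9.Sp4P.P_M1a
import Cfsg.Agent.Helper9.Sp4P.P_M1b
import Cfsg.Agent.Helper9.Sp4P.P_M1c
import Cfsg.Agent.Helper9.Sp4P.P_M2a
import Cfsg.Agent.Helper9.Sp4P.P_M2b
import Cfsg.Agent.Helper9.Sp4P.P_CEN
import Cfsg.Agent.Helper9.Sp4P.P_DATA
import Cfsg.Agent.Helper9.Sp4P.P_CW
import Cfsg.Agent.Helper9.Sp4P.P_NAT
import Cfsg.Agent.Helper9.Sp4P.P_GEN
import Cfsg.Agent.Helper9.Sp4P.P_QUOT
import Cfsg.Agent.Helper9.Sp4P.P_LIFT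
import Cfsg.Agent.Helper62.StCG

/-!
# S2293: the presented group on six generators and the isomorphisms with `Sp₄(F)`, `PSp₄(F)`
-/

set_option autoImplicit false

namespace Cfsg.Agent.Helper9.Sp4P

open Matrix Cfsg.Agent.Helper96.StemSLTwo Cfsg.Agent.Helper96.StPres Cfsg.Agent.Helper96.StC

universe u

section model

variable (F : Type u) [Field F]

theorem cross_model (z : Fˣ) : Cross (eL F) (eS F) z := by
  obtain ⟨h1, h2, h3, h4, h5⟩ := cross_model_a F z
  obtain ⟨h6, h7, h8, h9, h10, h11⟩ := cross_model_b F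
  obtain ⟨h12, h13⟩ := cross_model_c F
  exact ⟨h1, h2, h3, h4, h5, h6, h7, h8, h9, h10, h11, h12, h13⟩

theorem RX_model (p q : Fin 2 ⊕ Fin 2) (hpq : p ≠ q) (t : F) :
    ((RX (eL F) (eS F) p q t : Matrix.symplecticGroup (Fin 2) F) :
      Matrix (Fin 2 ⊕ Fin 2) (Fin 2 ⊕ Fin 2) F) = spM p q t := by
  rcases p with i | i
  · exact RX_model_inl F i q hpq t
  · exact RX_model_inr F i q hpq t

end model

/-- the first three of the six generators -/
def iL : Fin 3 → Fin 6 := fun i => ⟨i.val, by omega⟩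

/-- the last three of the six generators -/
def iS : Fin 3 → Fin 6 := fun i => ⟨i.val + 3, by omega⟩

section pres

variable {F : Type u} [Field F] (d : SL2Pres F)

/-- the thirteen cross relators as words in the six generators -/
noncomputable def crossW : List (FreeGroup (Fin 6)) :=
  crossWords (FreeGroup.map iL d.uw) (FreeGroup.map iL d.hw) (FreeGroup.map iL d.ww)
    (FreeGroup.map iS d.uw) (FreeGroup.map iS d.hw) (FreeGroup.map iS d.ww)
    (FreeGroup.map iS d.gw)

/-- the relators of `Sp₄(F)` -/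
noncomputable def rels6 : Finset (FreeGroup (Fin 6)) :=
  d.rels.image (FreeGroup.map iL) ∪ d.rels.image (FreeGroup.map iS) ∪ (crossW d).toFinset

theorem card_rels6 (hd : d.rels.card ≤ 9) : (rels6 d).card ≤ 31 := by
  have h1 := Finset.card_image_le (s := d.rels) (f := FreeGroup.map iL)
  have h2 := Finset.card_image_le (s := d.rels) (f := FreeGroup.map iS)
  have h3 : (crossW d).toFinset.card ≤ 13 :=
    (List.toFinset_card_le _).trans (le_of_eq (length_crossWords _ _ _ _ _ _ _))
  have h4 := Finset.card_union_le (d.rels.image (FreeGroup.map iL))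
    (d.rels.image (FreeGroup.map iS))
  have h5 := Finset.card_union_le
    (d.rels.image (FreeGroup.map iL) ∪ d.rels.image (FreeGroup.map iS)) (crossW d).toFinset
  unfold rels6
  omega

theorem map_iL_mem (r : FreeGroup (Fin 3)) (hr : r ∈ (↑d.rels : Set (FreeGroup (Fin 3)))) :
    FreeGroup.map iL r ∈ (↑(rels6 d) : Set (FreeGroup (Fin 6))) := by
  rw [Finset.mem_coe] at hr ⊢
  unfold rels6
  exact Finset.mem_union_left _ (Finset.mem_union_left _ (Finset.mem_image_of_mem _ hr))

theorem map_iS_mem (r : FreeGroup (Fin 3)) (hr : r ∈ (↑d.rels : Set (FreeGroup (Fin 3)))) :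
    FreeGroup.map iS r ∈ (↑(rels6 d) : Set (FreeGroup (Fin 6))) := by
  rw [Finset.mem_coe] at hr ⊢
  unfold rels6
  exact Finset.mem_union_left _ (Finset.mem_union_right _ (Finset.mem_image_of_mem _ hr))

theorem crossW_mem (r : FreeGroup (Fin 6)) (hr : r ∈ crossW d) :
    r ∈ (↑(rels6 d) : Set (FreeGroup (Fin 6))) := by
  rw [Finset.mem_coe]
  unfold rels6
  exact Finset.mem_union_right _ (List.mem_toFinset.2 hr)

/-- the homomorphism of presented groups induced by a map of generators -/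
noncomputable def lam (ι : Fin 3 → Fin 6)
    (h : ∀ r ∈ (↑d.rels : Set (FreeGroup (Fin 3))),
      FreeGroup.map ι r ∈ (↑(rels6 d) : Set (FreeGroup (Fin 6)))) :
    PresentedGroup (↑d.rels : Set (FreeGroup (Fin 3))) →*
      PresentedGroup (↑(rels6 d) : Set (FreeGroup (Fin 6))) :=
  Classical.choose (exists_presented_map ι _ _ h)

theorem lam_mk (ι : Fin 3 → Fin 6)
    (h : ∀ r ∈ (↑d.rels : Set (FreeGroup (Fin 3))),
      FreeGroup.map ι r ∈ (↑(rels6 d) : Set (FreeGroup (Fin 6))))
    (w : FreeGroup (Fin 3)) :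
    lam d ι h (PresentedGroup.mk _ w) = PresentedGroup.mk _ (FreeGroup.map ι w) :=
  Classical.choose_spec (exists_presented_map ι _ _ h) w

/-- the homomorphism from `SL₂(F)` -/
noncomputable def hom (ι : Fin 3 → Fin 6)
    (h : ∀ r ∈ (↑d.rels : Set (FreeGroup (Fin 3))),
      FreeGroup.map ι r ∈ (↑(rels6 d) : Set (FreeGroup (Fin 6)))) :
    SL2 F →* PresentedGroup (↑(rels6 d) : Set (FreeGroup (Fin 6))) :=
  (lam d ι h).comp (MulEquiv.ofBijective d.pi d.bij).symm.toMonoidHom

theorem hom_pi (ι : Fin 3 → Fin 6)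
    (h : ∀ r ∈ (↑d.rels : Set (FreeGroup (Fin 3))),
      FreeGroup.map ι r ∈ (↑(rels6 d) : Set (FreeGroup (Fin 6))))
    (w : FreeGroup (Fin 3)) :
    hom d ι h (d.pi (PresentedGroup.mk _ w)) = PresentedGroup.mk _ (FreeGroup.map ι w) := by
  unfold hom
  rw [MonoidHom.comp_apply]
  have e : (MulEquiv.ofBijective d.pi d.bij).symm.toMonoidHom (d.pi (PresentedGroup.mk _ w)) =
      PresentedGroup.mk _ w := by
    change (MulEquiv.ofBijective d.pi d.bij).symm (d.pi (PresentedGroup.mk _ w)) = _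
    rw [MulEquiv.symm_apply_eq]
    rfl
  rw [e, lam_mk]

/-- the long root `SL₂` in the presented group -/
noncomputable def homL : SL2 F →* PresentedGroup (↑(rels6 d) : Set (FreeGroup (Fin 6))) :=
  hom d iL (map_iL_mem d)

/-- the short root `SL₂` in the presented group -/
noncomputable def homS : SL2 F →* PresentedGroup (↑(rels6 d) : Set (FreeGroup (Fin 6))) :=
  hom d iS (map_iS_mem d)

theorem homL_pi (w : FreeGroup (Fin 3)) :
    homL d (d.pi (PresentedGroup.mk _ w)) = PresentedGroup.mk _ (FreeGroup.map iL w) :=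
  hom_pi d iL _ w

theorem homS_pi (w : FreeGroup (Fin 3)) :
    homS d (d.pi (PresentedGroup.mk _ w)) = PresentedGroup.mk _ (FreeGroup.map iS w) :=
  hom_pi d iS _ w

theorem cross_P : Cross (homL d) (homS d) d.z := by
  apply cross_of_words
  intro w hw
  have e1 : xe (homL d) 1 = PresentedGroup.mk _ (FreeGroup.map iL d.uw) := by
    unfold xe; rw [← d.pi_u, homL_pi]
  have e2 : he (homL d) d.z = PresentedGroup.mk _ (FreeGroup.map iL d.hw) := by
    unfold he; rw [← d.pi_h, homL_pi]
  have e3 : we (homL d) = PresentedGroup.mk _ (FreeGroup.map iL d.ww) := by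
    unfold we; rw [← d.pi_w, homL_pi]
  have e4 : xe (homS d) 1 = PresentedGroup.mk _ (FreeGroup.map iS d.uw) := by
    unfold xe; rw [← d.pi_u, homS_pi]
  have e5 : he (homS d) d.z = PresentedGroup.mk _ (FreeGroup.map iS d.hw) := by
    unfold he; rw [← d.pi_h, homS_pi]
  have e6 : we (homS d) = PresentedGroup.mk _ (FreeGroup.map iS d.ww) := by
    unfold we; rw [← d.pi_w, homS_pi]
  have e7 : xe (homS d) ((d.z : F)⁻¹) = PresentedGroup.mk _ (FreeGroup.map iS d.gw) := by
    unfold xe; rw [← d.pi_g, homS_pi]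
  rw [e1, e2, e3, e4, e5, e6, e7,
    ← map_crossWords (PresentedGroup.mk (↑(rels6 d) : Set (FreeGroup (Fin 6))))] at hw
  obtain ⟨r, hr, rfl⟩ := List.mem_map.1 hw
  exact PresentedGroup.one_of_mem (crossW_mem d r hr)

/-- the images of the six generators in `Sp₄(F)` -/
noncomputable def gens6 : Fin 6 → Matrix.symplecticGroup (Fin 2) F := fun i =>
  if h : i.val < 3 then eL F (d.pi (PresentedGroup.of ⟨i.val, h⟩))
  else eS F (d.pi (PresentedGroup.of ⟨i.val - 3, by omega⟩))

theorem gens6_iL (i : Fin 3) : gens6 d (iL i) = eL F (d.pi (PresentedGroup.of i)) := by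
  unfold gens6 iL
  rw [dif_pos i.isLt]

theorem gens6_iS (i : Fin 3) : gens6 d (iS i) = eS F (d.pi (PresentedGroup.of i)) := by
  unfold gens6 iS
  rw [dif_neg (by simp)]
  have e : ∀ h : (⟨i.val + 3, by omega⟩ : Fin 6).val - 3 < 3,
      (⟨(⟨i.val + 3, by omega⟩ : Fin 6).val - 3, h⟩ : Fin 3) = i :=
    fun h => Fin.ext (by simp)
  rw [e]

theorem lift_map_iL (w : FreeGroup (Fin 3)) :
    FreeGroup.lift (gens6 d) (FreeGroup.map iL w) = eL F (d.pi (PresentedGroup.mk _ w)) := by
  have h : (FreeGroup.lift (gens6 d)).comp (FreeGroup.map iL) =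
      ((eL F).comp d.pi).comp (PresentedGroup.mk _) := by
    apply FreeGroup.ext_hom
    intro i
    simp only [MonoidHom.comp_apply, FreeGroup.map.of, FreeGroup.lift_apply_of, gens6_iL]
    rfl
  exact DFunLike.congr_fun h w

theorem lift_map_iS (w : FreeGroup (Fin 3)) :
    FreeGroup.lift (gens6 d) (FreeGroup.map iS w) = eS F (d.pi (PresentedGroup.mk _ w)) := by
  have h : (FreeGroup.lift (gens6 d)).comp (FreeGroup.map iS) =
      ((eS F).comp d.pi).comp (PresentedGroup.mk _) := by
    apply FreeGroup.ext_hom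
    intro i
    simp only [MonoidHom.comp_apply, FreeGroup.map.of, FreeGroup.lift_apply_of, gens6_iS]
    rfl
  exact DFunLike.congr_fun h w

theorem gens6_rels : ∀ r ∈ (↑(rels6 d) : Set (FreeGroup (Fin 6))),
    FreeGroup.lift (gens6 d) r = 1 := by
  intro r hr
  rw [Finset.mem_coe, rels6, Finset.mem_union, Finset.mem_union, Finset.mem_image,
    Finset.mem_image, List.mem_toFinset] at hr
  rcases hr with (⟨r', hr', rfl⟩ | ⟨r', hr', rfl⟩) | hr
  · rw [lift_map_iL, PresentedGroup.one_of_mem (Finset.mem_coe.2 hr'), map_one, map_one]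
  · rw [lift_map_iS, PresentedGroup.one_of_mem (Finset.mem_coe.2 hr'), map_one, map_one]
  · have h1 : FreeGroup.lift (gens6 d) r ∈ (crossW d).map (FreeGroup.lift (gens6 d)) :=
      List.mem_map_of_mem hr
    rw [crossW, map_crossWords, lift_map_iL, lift_map_iL, lift_map_iL, lift_map_iS, lift_map_iS,
      lift_map_iS, lift_map_iS, d.pi_u, d.pi_h, d.pi_w, d.pi_g] at h1
    exact words_of_cross (eL F) (eS F) d.z (cross_model F d.z) _ h1

/-- the homomorphism to `Sp₄(F)` -/
noncomputable def phi : PresentedGroup (↑(rels6 d) : Set (FreeGroup (Fin 6))) →*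
    Matrix.symplecticGroup (Fin 2) F :=
  PresentedGroup.toGroup (gens6_rels d)

theorem phi_mk (w : FreeGroup (Fin 6)) :
    phi d (PresentedGroup.mk _ w) = FreeGroup.lift (gens6 d) w := by
  have h : (phi d).comp (PresentedGroup.mk _) = FreeGroup.lift (gens6 d) := by
    apply FreeGroup.ext_hom
    intro i
    rw [MonoidHom.comp_apply, FreeGroup.lift_apply_of]
    exact PresentedGroup.toGroup.of _
  exact DFunLike.congr_fun h w

theorem phi_homL : (phi d).comp (homL d) = eL F := by
  apply MonoidHom.ext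
  intro g
  obtain ⟨x, rfl⟩ := d.bij.2 g
  obtain ⟨w, rfl⟩ := QuotientGroup.mk_surjective x
  rw [MonoidHom.comp_apply]
  change phi d (homL d (d.pi (PresentedGroup.mk _ w))) = _
  rw [homL_pi, phi_mk, lift_map_iL]
  rfl

theorem phi_homS : (phi d).comp (homS d) = eS F := by
  apply MonoidHom.ext
  intro g
  obtain ⟨x, rfl⟩ := d.bij.2 g
  obtain ⟨w, rfl⟩ := QuotientGroup.mk_surjective x
  rw [MonoidHom.comp_apply]
  change phi d (homS d (d.pi (PresentedGroup.mk _ w))) = _
  rw [homS_pi, phi_mk, lift_map_iS]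
  rfl

theorem gen_P :
    Subgroup.closure {g | ∃ p q, p ≠ q ∧ ∃ t, g = RX (homL d) (homS d) p q t} = ⊤ := by
  rw [eq_top_iff, ← PresentedGroup.closure_range_of, Subgroup.closure_le]
  rintro _ ⟨i, rfl⟩
  obtain ⟨hL, hS⟩ := range_le_closure_RX (homL d) (homS d)
  by_cases h : i.val < 3
  · apply hL
    refine ⟨d.pi (PresentedGroup.of ⟨i.val, h⟩), ?_⟩
    change homL d (d.pi (PresentedGroup.mk _ (FreeGroup.of ⟨i.val, h⟩))) = _
    rw [homL_pi, FreeGroup.map.of]
    rfl
  · apply hS
    refine ⟨d.pi (PresentedGroup.of ⟨i.val - 3, by omega⟩), ?_⟩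
    change homS d (d.pi (PresentedGroup.mk _ (FreeGroup.of ⟨i.val - 3, by omega⟩))) = _
    rw [homS_pi, FreeGroup.map.of]
    have e : iS ⟨i.val - 3, by omega⟩ = i := by
      apply Fin.ext
      simp only [iS]
      omega
    rw [e]
    rfl

theorem phi_RX (p q : Fin 2 ⊕ Fin 2) (hpq : p ≠ q) (t : F) :
    ((phi d (RX (homL d) (homS d) p q t) : Matrix.symplecticGroup (Fin 2) F) :
      Matrix (Fin 2 ⊕ Fin 2) (Fin 2 ⊕ Fin 2) F) = spM p q t := by
  rw [map_RX, phi_homL, phi_homS]
  exact RX_model F p q hpq t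

theorem phi_bijective [Fintype F] : Function.Bijective (phi d) := by
  have hX := spRel_of_cross d.hz (cross_P d)
  refine ⟨Cfsg.Agent.Helper96.StC.phi_injective (le_refl 2) hX (gen_P d) (phi d) (phi_RX d), ?_⟩
  rw [← MonoidHom.range_eq_top, eq_top_iff,
    ← Cfsg.Agent.Helper62.StCG.closure_root_eq_top
      (T := fun p q t => phi d (RX (homL d) (homS d) p q t)) (phi_RX d), Subgroup.closure_le]
  rintro _ ⟨p, q, -, t, rfl⟩
  exact ⟨_, rfl⟩

/-- the relator killing the centre -/
noncomputable def zw : FreeGroup (Fin 6) := (FreeGroup.map iS d.ww) ^ 2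

/-- the relators of `PSp₄(F)` -/
noncomputable def rels6' : Finset (FreeGroup (Fin 6)) := insert (zw d) (rels6 d)

theorem card_rels6' (hd : d.rels.card ≤ 9) : (rels6' d).card ≤ 32 := by
  have h1 := card_rels6 d hd
  have h2 := Finset.card_insert_le (zw d) (rels6 d)
  unfold rels6'
  omega

theorem phi_zw : phi d (PresentedGroup.mk _ (zw d)) = (eS F (WU (1 : F))) ^ 2 := by
  rw [phi_mk, zw, map_pow, lift_map_iS, d.pi_w]

theorem exists_psi : ∃ f : PresentedGroup (↑(rels6 d) : Set (FreeGroup (Fin 6))) →*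
    PresentedGroup (↑(rels6' d) : Set (FreeGroup (Fin 6))),
    ∀ w : FreeGroup (Fin 6), f (PresentedGroup.mk _ w) = PresentedGroup.mk _ w := by
  obtain ⟨f, hf⟩ := exists_presented_map (id : Fin 6 → Fin 6)
    (↑(rels6 d) : Set (FreeGroup (Fin 6))) (↑(rels6' d) : Set (FreeGroup (Fin 6)))
    (fun r hr => by
      rw [FreeGroup.map.id]
      rw [Finset.mem_coe] at hr ⊢
      exact Finset.mem_insert_of_mem hr)
  refine ⟨f, fun w => ?_⟩
  rw [hf, FreeGroup.map.id]

/-- the images of the six generators in `PSp₄(F)` -/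
noncomputable def gens6' : Fin 6 → Cfsg.PSp 2 F := fun i => QuotientGroup.mk (gens6 d i)

theorem lift_gens6' (w : FreeGroup (Fin 6)) :
    FreeGroup.lift (gens6' d) w = QuotientGroup.mk (FreeGroup.lift (gens6 d) w) := by
  have h : FreeGroup.lift (gens6' d) =
      (QuotientGroup.mk' (Subgroup.center (Matrix.symplecticGroup (Fin 2) F))).comp
        (FreeGroup.lift (gens6 d)) := by
    apply FreeGroup.ext_hom
    intro i
    rw [MonoidHom.comp_apply, FreeGroup.lift_apply_of, FreeGroup.lift_apply_of]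
    rfl
  exact DFunLike.congr_fun h w

theorem gens6'_rels : ∀ r ∈ (↑(rels6' d) : Set (FreeGroup (Fin 6))),
    FreeGroup.lift (gens6' d) r = 1 := by
  intro r hr
  rw [Finset.mem_coe, rels6', Finset.mem_insert] at hr
  rw [lift_gens6']
  rcases hr with rfl | hr
  · rw [QuotientGroup.eq_one_iff, ← phi_mk, phi_zw]
    exact eS_WU_sq_mem_center F
  · rw [gens6_rels d r (Finset.mem_coe.2 hr)]
    rfl

/-- the homomorphism to `PSp₄(F)` -/
noncomputable def phi' : PresentedGroup (↑(rels6' d) : Set (FreeGroup (Fin 6))) →*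
    Cfsg.PSp 2 F :=
  PresentedGroup.toGroup (gens6'_rels d)

theorem phi'_mk (w : FreeGroup (Fin 6)) :
    phi' d (PresentedGroup.mk _ w) = FreeGroup.lift (gens6' d) w := by
  have h : (phi' d).comp (PresentedGroup.mk _) = FreeGroup.lift (gens6' d) := by
    apply FreeGroup.ext_hom
    intro i
    rw [MonoidHom.comp_apply, FreeGroup.lift_apply_of]
    exact PresentedGroup.toGroup.of _
  exact DFunLike.congr_fun h w

theorem phi'_bijective [Fintype F] : Function.Bijective (phi' d) := by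
  obtain ⟨psi, hpsi⟩ := exists_psi d
  have hbij := phi_bijective d
  refine quot_bijective (phi d) hbij.2 psi ?_ (phi' d) ?_ ?_
  · intro y
    obtain ⟨w, rfl⟩ := QuotientGroup.mk_surjective y
    exact ⟨PresentedGroup.mk _ w, hpsi w⟩
  · intro g hg
    rcases center_sp4 F _ hg with h | h
    · have : g = 1 := hbij.1 (by rw [h, map_one])
      rw [this, map_one]
    · have : g = PresentedGroup.mk _ (zw d) := hbij.1 (by rw [h, phi_zw])
      rw [this, hpsi]
      apply PresentedGroup.one_of_mem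
      rw [Finset.mem_coe, rels6']
      exact Finset.mem_insert_self _ _
  · intro g
    obtain ⟨w, rfl⟩ := QuotientGroup.mk_surjective g
    change phi' d (psi (PresentedGroup.mk _ w)) = QuotientGroup.mk (phi d (PresentedGroup.mk _ w))
    rw [hpsi, phi'_mk, lift_gens6', phi_mk]

end pres

/-- **S2293** -/
theorem sp4_presentations {F : Type u} [Field F] [Fintype F] :
    (∃ rels : Finset (FreeGroup (Fin 6)), rels.card ≤ 35 ∧
      Nonempty (PresentedGroup (↑rels : Set (FreeGroup (Fin 6))) ≃*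
        Matrix.symplecticGroup (Fin 2) F)) ∧
    (∃ rels : Finset (FreeGroup (Fin 6)), rels.card ≤ 36 ∧
      Nonempty (PresentedGroup (↑rels : Set (FreeGroup (Fin 6))) ≃* Cfsg.PSp 2 F)) := by
  obtain ⟨d, hd⟩ := exists_sl2Pres F
  refine ⟨⟨rels6 d, ?_, ⟨MulEquiv.ofBijective (phi d) (phi_bijective d)⟩⟩,
    ⟨rels6' d, ?_, ⟨MulEquiv.ofBijective (phi' d) (phi'_bijective d)⟩⟩⟩
  · have := card_rels6 d hd
    omega
  · have := card_rels6' d hd
    omega

end Cfsg.Agent.Helper9.Sp4P
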